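import Mathlib

/-!
# Dual numbers: functoriality, locality, derivations and tangent vectors
-/

set_option autoImplicit false
universe u

open IsLocalRing

namespace Groth.Agent.Lib.Helper19.Cartier

section mapDN

variable {R S T : Type*} [CommRing R] [CommRing S] [CommRing T]

/-- functoriality of dual numbers in the ring -/
def mapDN (f : R →+* S) : DualNumber R →+* DualNumber S where
  toFun x := (⟨f x.fst, f x.snd⟩ : TrivSqZeroExt S S)
  map_one' := by
    apply TrivSqZeroExt.ext
    · change f (1 : TrivSqZeroExt R R).fst = (1 : TrivSqZeroExt S S).fst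
      simp
    · change f (1 : TrivSqZeroExt R R).snd = (1 : TrivSqZeroExt S S).snd
      simp
  map_mul' x y := by
    apply TrivSqZeroExt.ext
    · change f (x * y).fst = f x.fst * f y.fst
      simp
    · change f (x * y).snd = _
      simp only [TrivSqZeroExt.snd_mul, smul_eq_mul, MulOpposite.smul_eq_mul_unop,
        MulOpposite.unop_op, map_add, map_mul]
      rfl
  map_zero' := by
    apply TrivSqZeroExt.ext
    · change f (0 : TrivSqZeroExt R R).fst = (0 : TrivSqZeroExt S S).fst
      simp
    · change f (0 : TrivSqZeroExt R R).snd = (0 : TrivSqZeroExt S S).snd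
      simp
  map_add' x y := by
    apply TrivSqZeroExt.ext
    · change f (x + y).fst = f x.fst + f y.fst
      simp
    · change f (x + y).snd = f x.snd + f y.snd
      simp

@[simp] lemma fst_mapDN (f : R →+* S) (x : DualNumber R) : (mapDN f x).fst = f x.fst := rfl
@[simp] lemma snd_mapDN (f : R →+* S) (x : DualNumber R) : (mapDN f x).snd = f x.snd := rfl

/-- first projection as a ring hom -/
def fstDN : DualNumber R →+* R := (TrivSqZeroExt.fstHom R R R).toRingHom

@[simp] lemma fstDN_apply (x : DualNumber R) : fstDN x = x.fst := rfl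

/-- inclusion as a ring hom -/
def inlDN : R →+* DualNumber R := TrivSqZeroExt.inlHom R R

@[simp] lemma fst_inlDN (r : R) : (inlDN r).fst = r := rfl
@[simp] lemma snd_inlDN (r : R) : (inlDN r).snd = 0 := rfl

lemma fstDN_comp_inlDN : (fstDN (R := R)).comp inlDN = RingHom.id R := by
  ext r; rfl

lemma mapDN_comp_inlDN (f : R →+* S) : (mapDN f).comp inlDN = inlDN.comp f := by
  ext r
  · rfl
  · change f 0 = 0
    simp

lemma fstDN_comp_mapDN (f : R →+* S) : fstDN.comp (mapDN f) = f.comp fstDN := by
  ext x <;> rfl

lemma mapDN_comp (f : R →+* S) (g : S →+* T) : (mapDN g).comp (mapDN f) = mapDN (g.comp f) := by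
  ext x <;> rfl

lemma mapDN_id : mapDN (RingHom.id R) = RingHom.id _ := by
  ext x <;> rfl

instance isLocalRing_dualNumber [IsLocalRing R] : IsLocalRing (DualNumber R) := by
  haveI : Nontrivial (DualNumber R) := (fstDN (R := R)).domain_nontrivial
  refine IsLocalRing.of_nonunits_add ?_
  intro a b ha hb
  rw [mem_nonunits_iff, TrivSqZeroExt.isUnit_iff_isUnit_fst] at ha hb ⊢
  rw [TrivSqZeroExt.fst_add]
  exact IsLocalRing.nonunits_add ha hb

instance isLocalHom_fstDN : IsLocalHom (fstDN (R := R)) :=
  ⟨fun a ha => TrivSqZeroExt.isUnit_iff_isUnit_fst.mpr ha⟩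

instance isLocalHom_inlDN : IsLocalHom (inlDN (R := R)) :=
  ⟨fun a ha => by
    have := TrivSqZeroExt.isUnit_iff_isUnit_fst.mp ha
    exact this⟩

instance isLocalHom_mapDN (f : R →+* S) [IsLocalHom f] : IsLocalHom (mapDN f) :=
  ⟨fun a ha => by
    rw [TrivSqZeroExt.isUnit_iff_isUnit_fst] at ha ⊢
    exact IsLocalHom.map_nonunit (f := f) _ ha⟩

/-- A ring hom `Δ : A → A[ε]` lifting the identity gives a derivation `a ↦ snd (Δ a)`. -/
noncomputable def derivOfHom (Δ : R →+* DualNumber R) (h : ∀ a, (Δ a).fst = a) :
    Derivation ℤ R R :=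
  Derivation.mk' (AddMonoidHom.toIntLinearMap
    { toFun := fun a => (Δ a).snd
      map_zero' := by simp
      map_add' := fun a b => by simp }) (by
    intro a b
    change (Δ (a * b)).snd = a • (Δ b).snd + b • (Δ a).snd
    rw [map_mul, TrivSqZeroExt.snd_mul, h a, h b]
    simp only [smul_eq_mul, MulOpposite.smul_eq_mul_unop, MulOpposite.unop_op]
    ring)

@[simp] lemma derivOfHom_apply (Δ : R →+* DualNumber R) (h : ∀ a, (Δ a).fst = a) (a : R) :
    derivOfHom Δ h a = (Δ a).snd := rfl

end mapDN

section Tangent

variable {A k : Type*} [CommRing A] [IsLocalRing A] [Field k] (ε : A →+* k) [IsLocalHom ε]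
  (s : k →+* A) (hs : ∀ c, ε (s c) = c)

include hs in
lemma ker_eq_maximalIdeal : RingHom.ker ε = maximalIdeal A := by
  have hsurj : Function.Surjective ε := fun c => ⟨s c, hs c⟩
  have : (RingHom.ker ε).IsMaximal := RingHom.ker_isMaximal_of_surjective ε hsurj
  exact eq_maximalIdeal this

include hs in
lemma sub_mem_maximalIdeal (a : A) : a - s (ε a) ∈ maximalIdeal A := by
  rw [← ker_eq_maximalIdeal ε s hs, RingHom.mem_ker, map_sub, hs, sub_self]

/-- The tangent vector (as a ring hom to the dual numbers) attached to a functional on the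
cotangent space. -/
noncomputable def tangentHom (v : CotangentSpace A →ₗ[ResidueField A] ResidueField A) :
    A →+* DualNumber k where
  toFun a := (⟨ε a, ResidueField.lift ε (v ((maximalIdeal A).toCotangent
    ⟨a - s (ε a), sub_mem_maximalIdeal ε s hs a⟩))⟩ : TrivSqZeroExt k k)
  map_one' := by
    apply TrivSqZeroExt.ext
    · change ε 1 = 1
      simp
    · change ResidueField.lift ε (v ((maximalIdeal A).toCotangent ⟨1 - s (ε 1), _⟩)) = 0
      have : (⟨1 - s (ε 1), sub_mem_maximalIdeal ε s hs 1⟩ : maximalIdeal A) = 0 := by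
        apply Subtype.ext
        simp
      rw [this]
      simp
  map_mul' a b := by
    apply TrivSqZeroExt.ext
    · change ε (a * b) = ε a * ε b
      simp
    · set pa : maximalIdeal A := ⟨a - s (ε a), sub_mem_maximalIdeal ε s hs a⟩ with hpa
      set pb : maximalIdeal A := ⟨b - s (ε b), sub_mem_maximalIdeal ε s hs b⟩ with hpb
      change ResidueField.lift ε (v ((maximalIdeal A).toCotangent
          ⟨a * b - s (ε (a * b)), sub_mem_maximalIdeal ε s hs (a * b)⟩)) =
        ε a * ResidueField.lift ε (v ((maximalIdeal A).toCotangent pb)) +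
          ResidueField.lift ε (v ((maximalIdeal A).toCotangent pa)) * ε b
      have key : (maximalIdeal A).toCotangent
          ⟨a * b - s (ε (a * b)), sub_mem_maximalIdeal ε s hs (a * b)⟩ =
          (maximalIdeal A).toCotangent (a • pb + b • pa) := by
        rw [Ideal.toCotangent_eq]
        have : ((⟨a * b - s (ε (a * b)), sub_mem_maximalIdeal ε s hs (a * b)⟩ :
            maximalIdeal A) : A) - ((a • pb + b • pa : maximalIdeal A) : A) =
            -((a - s (ε a)) * (b - s (ε b))) := by
          simp only [hpa, hpb, Submodule.coe_add, Submodule.coe_smul, smul_eq_mul, map_mul]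
          ring
        rw [this, pow_two]
        exact neg_mem (Ideal.mul_mem_mul (sub_mem_maximalIdeal ε s hs a)
          (sub_mem_maximalIdeal ε s hs b))
      have h1 : ResidueField.lift ε (algebraMap A (ResidueField A) a) = ε a :=
        ResidueField.lift_residue_apply ε a
      have h2 : ResidueField.lift ε (algebraMap A (ResidueField A) b) = ε b :=
        ResidueField.lift_residue_apply ε b
      rw [key, map_add, map_smul, map_smul, ← algebraMap_smul (ResidueField A) a,
        ← algebraMap_smul (ResidueField A) b, map_add, map_smul, map_smul, smul_eq_mul,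
        smul_eq_mul, map_add, map_mul, map_mul, h1, h2]
      ring
  map_zero' := by
    apply TrivSqZeroExt.ext
    · change ε 0 = 0
      simp
    · change ResidueField.lift ε (v ((maximalIdeal A).toCotangent ⟨0 - s (ε 0), _⟩)) = 0
      have : (⟨0 - s (ε 0), sub_mem_maximalIdeal ε s hs 0⟩ : maximalIdeal A) = 0 := by
        apply Subtype.ext
        simp
      rw [this]
      simp
  map_add' a b := by
    apply TrivSqZeroExt.ext
    · change ε (a + b) = ε a + ε b
      simp
    · change ResidueField.lift ε (v ((maximalIdeal A).toCotangent ⟨a + b - s (ε (a + b)), _⟩)) =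
        ResidueField.lift ε (v ((maximalIdeal A).toCotangent ⟨a - s (ε a), _⟩)) +
        ResidueField.lift ε (v ((maximalIdeal A).toCotangent ⟨b - s (ε b), _⟩))
      rw [← map_add, ← map_add, ← map_add]
      congr 3
      apply Subtype.ext
      simp only [map_add, Submodule.coe_add]
      ring

lemma fst_tangentHom (v : CotangentSpace A →ₗ[ResidueField A] ResidueField A) (a : A) :
    (tangentHom ε s hs v a).fst = ε a := rfl

lemma snd_tangentHom_of_mem (v : CotangentSpace A →ₗ[ResidueField A] ResidueField A)
    (x : maximalIdeal A) :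
    (tangentHom ε s hs v x).snd =
      ResidueField.lift ε (v ((maximalIdeal A).toCotangent x)) := by
  change ResidueField.lift ε (v ((maximalIdeal A).toCotangent ⟨(x : A) - s (ε x), _⟩)) = _
  congr 3
  apply Subtype.ext
  have : ε (x : A) = 0 := by
    have h : (x : A) ∈ RingHom.ker ε := by
      rw [ker_eq_maximalIdeal ε s hs]; exact x.2
    exact h
  simp [this]

lemma tangentHom_comp (v : CotangentSpace A →ₗ[ResidueField A] ResidueField A) :
    (tangentHom ε s hs v).comp s = inlDN := by
  ext c
  · change ε (s c) = c
    exact hs c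
  · change ResidueField.lift ε (v ((maximalIdeal A).toCotangent ⟨s c - s (ε (s c)), _⟩)) = 0
    have : (⟨s c - s (ε (s c)), sub_mem_maximalIdeal ε s hs (s c)⟩ : maximalIdeal A) = 0 := by
      apply Subtype.ext
      simp [hs]
    rw [this]
    simp

end Tangent

end Groth.Agent.Lib.Helper19.Cartier
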