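import Mathlib

/-!
# Endomorphisms of a local ring acting by a unit scalar on the cotangent space

If `φ : A → A` is a ring endomorphism of a local ring which is the identity modulo `𝔪` and acts on
`𝔪/𝔪²` as multiplication by a unit `c` fixed by `φ`, then `φ` induces bijections on all `A/𝔪^j`.
-/

set_option autoImplicit false

open IsLocalRing

namespace Groth.Agent.Lib.Helper19.Cartier

variable {A : Type*} [CommRing A] [IsLocalRing A] (φ : A →+* A) (c : A)

lemma sub_pow_mul_mem (h0 : ∀ x, φ x - x ∈ maximalIdeal A)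
    (h1 : ∀ x ∈ maximalIdeal A, φ x - c * x ∈ maximalIdeal A ^ 2) (i : ℕ) :
    ∀ x ∈ maximalIdeal A ^ i, φ x - c ^ i * x ∈ maximalIdeal A ^ (i + 1) := by
  induction i with
  | zero =>
    intro x _
    simpa using h0 x
  | succ i ih =>
    intro x hx
    rw [pow_succ] at hx
    refine Submodule.mul_induction_on hx ?_ ?_
    · intro b hb a ha
      have hφa : φ a ∈ maximalIdeal A := by
        have := add_mem (h0 a) ha
        rwa [sub_add_cancel] at this
      have e : φ (b * a) - c ^ (i + 1) * (b * a) =
          (φ b - c ^ i * b) * φ a + (c ^ i * b) * (φ a - c * a) := by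
        rw [map_mul]; ring
      rw [e]
      refine add_mem ?_ ?_
      · have := Ideal.mul_mem_mul (ih b hb) hφa
        rwa [← pow_succ] at this
      · have := Ideal.mul_mem_mul (Ideal.mul_mem_left _ (c ^ i) hb) (h1 a ha)
        rwa [← pow_add] at this
    · intro x y hx hy
      have e : φ (x + y) - c ^ (i + 1) * (x + y) =
          (φ x - c ^ (i + 1) * x) + (φ y - c ^ (i + 1) * y) := by
        rw [map_add]; ring
      rw [e]
      exact add_mem hx hy

theorem surjective_and_ker_of_sub_mul_mem_sq (hc : IsUnit c) (hφc : φ c = c)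
    (h0 : ∀ x, φ x - x ∈ maximalIdeal A)
    (h1 : ∀ x ∈ maximalIdeal A, φ x - c * x ∈ maximalIdeal A ^ 2) (j : ℕ) :
    Function.Surjective ((Ideal.Quotient.mk (maximalIdeal A ^ j)).comp φ) ∧
      RingHom.ker ((Ideal.Quotient.mk (maximalIdeal A ^ j)).comp φ) = maximalIdeal A ^ j := by
  have G := sub_pow_mul_mem φ c h0 h1
  obtain ⟨u, rfl⟩ := hc
  have hφu : φ (↑u⁻¹ : A) = ↑u⁻¹ := by
    have h : φ (↑u⁻¹ : A) * (u : A) = 1 := by
      conv_lhs => rw [← hφc]
      rw [← map_mul, Units.inv_mul, map_one]
    calc φ (↑u⁻¹ : A) = φ (↑u⁻¹ : A) * (u : A) * ↑u⁻¹ := by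
          rw [mul_assoc, Units.mul_inv, mul_one]
      _ = ↑u⁻¹ := by rw [h, one_mul]
  constructor
  · -- surjectivity
    have hs : ∀ j : ℕ, ∀ y : A, ∃ x : A, y - φ x ∈ maximalIdeal A ^ j := by
      intro j
      induction j with
      | zero =>
        intro y
        exact ⟨0, by simp⟩
      | succ j ih =>
        intro y
        obtain ⟨x, hx⟩ := ih y
        refine ⟨x + (↑u⁻¹ : A) ^ j * (y - φ x), ?_⟩
        have hr := G j (y - φ x) hx
        have e : y - φ (x + (↑u⁻¹ : A) ^ j * (y - φ x)) =
            -((↑u⁻¹ : A) ^ j * (φ (y - φ x) - (u : A) ^ j * (y - φ x))) := by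
          rw [map_add, map_mul, map_pow, hφu]
          have : (↑u⁻¹ : A) ^ j * ((u : A) ^ j * (y - φ x)) = y - φ x := by
            rw [← mul_assoc, ← mul_pow, Units.inv_mul, one_pow, one_mul]
          linear_combination (-1 : A) * this
        rw [e]
        exact neg_mem (Ideal.mul_mem_left _ _ hr)
    intro z
    obtain ⟨y, rfl⟩ := Ideal.Quotient.mk_surjective z
    obtain ⟨x, hx⟩ := hs j y
    refine ⟨x, ?_⟩
    rw [RingHom.comp_apply, eq_comm, Ideal.Quotient.eq]
    exact hx
  · -- kernel
    ext x
    rw [RingHom.mem_ker, RingHom.comp_apply, Ideal.Quotient.eq_zero_iff_mem]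
    constructor
    · intro hx
      have : ∀ i : ℕ, i ≤ j → x ∈ maximalIdeal A ^ i := by
        intro i
        induction i with
        | zero => intro _; simp
        | succ i ih =>
          intro hij
          have hxi := ih (Nat.le_of_succ_le hij)
          have h2 := G i x hxi
          have h3 : φ x ∈ maximalIdeal A ^ (i + 1) := Ideal.pow_le_pow_right hij hx
          have h4 : (u : A) ^ i * x ∈ maximalIdeal A ^ (i + 1) := by
            have := sub_mem h3 h2
            rwa [sub_sub_cancel] at this
          have h5 := Ideal.mul_mem_left _ ((↑u⁻¹ : A) ^ i) h4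
          rwa [← mul_assoc, ← mul_pow, Units.inv_mul, one_pow, one_mul] at h5
      exact this j le_rfl
    · intro hx
      have h2 := G j x hx
      have h3 : (u : A) ^ j * x ∈ maximalIdeal A ^ j := Ideal.mul_mem_left _ _ hx
      have := add_mem (Ideal.pow_le_pow_right (Nat.le_succ j) h2) h3
      rwa [sub_add_cancel] at this

end Groth.Agent.Lib.Helper19.Cartier
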