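import Mathlib
import Groth.Agent.Lib.Helper19.Cartier.DualNumberAlg

/-!
# Invariant derivations on the local ring at the unit of a group scheme over a field

For a group object `G` of `Over (Spec k)`, `A = 𝒪_{G,e}`, every tangent vector
`φ : A → k[ε]` at `e` gives a derivation `D` of `A` with `ε_A (D a) = snd (φ a)`.
The construction multiplies the canonical `A[ε]`-point of `G` with the tangent vector, in the
group `G(A[ε])`.
-/

set_option autoImplicit false
universe u

open CategoryTheory CategoryTheory.Limits AlgebraicGeometry MonoidalCategory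
  CartesianMonoidalCategory MonObj IsLocalRing

namespace Groth.Agent.Lib.Helper19.Cartier

variable {k : Type u} [Field k]

/-- `Spec R` as an object over `Spec k`, for a ring `R` with a structure map from `k`. -/
noncomputable abbrev T (R : CommRingCat.{u}) (s : CommRingCat.of k ⟶ R) :
    Over (Spec (CommRingCat.of k)) := Over.mk (Spec.map s)

/-- functoriality of `T` -/
noncomputable def Tmap {R R' : CommRingCat.{u}} {s : CommRingCat.of k ⟶ R}
    {s' : CommRingCat.of k ⟶ R'} (h : R ⟶ R') (w : s ≫ h = s') : T R' s' ⟶ T R s :=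
  Over.homMk (Spec.map h) (by
    change Spec.map h ≫ Spec.map s = Spec.map s'
    rw [← Spec.map_comp, w])

@[simp] lemma Tmap_left {R R' : CommRingCat.{u}} {s : CommRingCat.of k ⟶ R}
    {s' : CommRingCat.of k ⟶ R'} (h : R ⟶ R') (w : s ≫ h = s') :
    (Tmap h w).left = Spec.map h := rfl

lemma Tmap_comp_Tmap {R R' R'' : CommRingCat.{u}} {s : CommRingCat.of k ⟶ R}
    {s' : CommRingCat.of k ⟶ R'} {s'' : CommRingCat.of k ⟶ R''} (h : R ⟶ R') (w : s ≫ h = s')
    (h' : R' ⟶ R'') (w' : s' ≫ h' = s'') :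
    Tmap h' w' ≫ Tmap h w = Tmap (h ≫ h') (by rw [← Category.assoc, w, w']) := by
  ext
  simp [Spec.map_comp]

lemma Tmap_congr {R R' : CommRingCat.{u}} {s : CommRingCat.of k ⟶ R}
    {s' : CommRingCat.of k ⟶ R'} {h h' : R ⟶ R'} (e : h = h') (w : s ≫ h = s') :
    Tmap h w = Tmap h' (e ▸ w) := by
  subst e; rfl

lemma Tmap_id {R : CommRingCat.{u}} {s : CommRingCat.of k ⟶ R} :
    Tmap (𝟙 R) (Category.comp_id s) = 𝟙 (T R s) := by
  ext
  simp

/-- A morphism from the spectrum of a local ring sending the closed point to `x` factors through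
`Spec 𝒪_{X,x}`. -/
lemma exists_hom_of_closedPoint {X : Scheme.{u}} {R : CommRingCat.{u}} [IsLocalRing R]
    (t : Spec R ⟶ X) (x : X) (hx : t (closedPoint R) = x) :
    ∃ φ : X.presheaf.stalk x ⟶ R, IsLocalHom φ.hom ∧ Spec.map φ ≫ X.fromSpecStalk x = t := by
  subst hx
  exact ⟨Scheme.stalkClosedPointTo t, inferInstance, Scheme.Spec_stalkClosedPointTo_fromSpecStalk t⟩

lemma hom_eq_of_SpecMap_comp_fromSpecStalk {X : Scheme.{u}} {R : CommRingCat.{u}} (x : X)
    {φ₁ φ₂ : X.presheaf.stalk x ⟶ R}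
    (h : Spec.map φ₁ ≫ X.fromSpecStalk x = Spec.map φ₂ ≫ X.fromSpecStalk x) : φ₁ = φ₂ := by
  have : Mono (X.fromSpecStalk x) := inferInstance
  exact Spec.map_injective ((cancel_mono _).mp h)

section Group

variable (G : Over (Spec (CommRingCat.of k))) [GrpObj G]

/-- the unit point of `G` -/
noncomputable def unitPt : G.left := η[G].left.base (closedPoint k)

/-- the local ring at the unit point -/
noncomputable abbrev A : CommRingCat.{u} := G.left.presheaf.stalk (unitPt G)

/-- the structure map `k → A` -/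
noncomputable def sA : CommRingCat.of k ⟶ A G :=
  Spec.preimage ((G.left.fromSpecStalk (unitPt G) ≫ G.hom : Spec (A G) ⟶ Spec (CommRingCat.of k)))

lemma SpecMap_sA : Spec.map (sA G) = G.left.fromSpecStalk (unitPt G) ≫ G.hom :=
  Spec.map_preimage _

/-- the canonical `A`-point of `G` -/
noncomputable def can : T (A G) (sA G) ⟶ G :=
  Over.homMk (G.left.fromSpecStalk (unitPt G)) (by
    change G.left.fromSpecStalk (unitPt G) ≫ G.hom = Spec.map (sA G)
    rw [SpecMap_sA])

@[simp] lemma can_left : (can G).left = G.left.fromSpecStalk (unitPt G) := rfl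

lemma exists_εA : ∃ εA : A G ⟶ CommRingCat.of k, IsLocalHom εA.hom ∧
    Spec.map εA ≫ G.left.fromSpecStalk (unitPt G) = η[G].left :=
  exists_hom_of_closedPoint (R := CommRingCat.of k) η[G].left (unitPt G) rfl

/-- the augmentation `A → k` -/
noncomputable def εA : A G ⟶ CommRingCat.of k := (exists_εA G).choose

instance : IsLocalHom (εA G).hom := (exists_εA G).choose_spec.1

lemma SpecMap_εA_fromSpecStalk :
    Spec.map (εA G) ≫ G.left.fromSpecStalk (unitPt G) = η[G].left :=
  (exists_εA G).choose_spec.2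

lemma sA_εA : sA G ≫ εA G = 𝟙 _ := by
  apply Spec.map_injective
  rw [Spec.map_comp, SpecMap_sA, ← Category.assoc, SpecMap_εA_fromSpecStalk, Spec.map_id]
  have := Over.w η[G]
  simpa using this

lemma εA_sA_apply (c : k) : (εA G).hom ((sA G).hom c) = c := by
  have := congrArg (fun f => f.hom c) (sA_εA G)
  simpa using this

/-- the trivial point -/
lemma Tmap_comp_can_eq_one {R : CommRingCat.{u}} (s : CommRingCat.of k ⟶ R) (h : A G ⟶ R)
    (w : sA G ≫ h = s) (e : h = εA G ≫ s) : Tmap h w ≫ can G = 1 := by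
  subst e
  rw [Hom.one_def]
  ext
  simp only [Over.comp_left, Tmap_left, can_left, Spec.map_comp, Category.assoc,
    SpecMap_εA_fromSpecStalk]
  congr 1

end Group

section Tangent

variable (G : Over (Spec (CommRingCat.of k))) [GrpObj G]

/-- the `R`-point of `G` attached to a ring hom `A → R` -/
noncomputable def P {R : CommRingCat.{u}} {s : CommRingCat.of k ⟶ R} (h : A G ⟶ R)
    (w : sA G ≫ h = s) : T R s ⟶ G := Tmap h w ≫ can G

lemma Tmap_comp_P {R R' : CommRingCat.{u}} {s : CommRingCat.of k ⟶ R}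
    {s' : CommRingCat.of k ⟶ R'} (a : R ⟶ R') (wa : s ≫ a = s') (h : A G ⟶ R)
    (w : sA G ≫ h = s) :
    Tmap a wa ≫ P G h w = P G (h ≫ a) (by rw [← Category.assoc, w, wa]) := by
  unfold P
  rw [← Category.assoc, Tmap_comp_Tmap]

lemma P_eq_one {R : CommRingCat.{u}} (s : CommRingCat.of k ⟶ R) (h : A G ⟶ R)
    (w : sA G ≫ h = s) (e : h = εA G ≫ s) : P G h w = 1 :=
  Tmap_comp_can_eq_one G s h w e

lemma P_injective {R : CommRingCat.{u}} {s : CommRingCat.of k ⟶ R} {h₁ h₂ : A G ⟶ R}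
    (w₁ : sA G ≫ h₁ = s) (w₂ : sA G ≫ h₂ = s) (e : P G h₁ w₁ = P G h₂ w₂) : h₁ = h₂ := by
  apply hom_eq_of_SpecMap_comp_fromSpecStalk (unitPt G)
  have := congrArg (fun f => f.left) e
  simpa [P] using this

lemma P_congr {R : CommRingCat.{u}} {s : CommRingCat.of k ⟶ R} {h₁ h₂ : A G ⟶ R}
    (w₁ : sA G ≫ h₁ = s) (e : h₁ = h₂) : P G h₁ w₁ = P G h₂ (e ▸ w₁) := by
  subst e; rfl

lemma Tmap_comp_P_mul_P {R R' : CommRingCat.{u}} {s : CommRingCat.of k ⟶ R}
    {s' : CommRingCat.of k ⟶ R'} (a : R ⟶ R') (wa : s ≫ a = s') (h₁ h₂ : A G ⟶ R)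
    (w₁ : sA G ≫ h₁ = s) (w₂ : sA G ≫ h₂ = s) :
    Tmap a wa ≫ (P G h₁ w₁ * P G h₂ w₂) =
      P G (h₁ ≫ a) (by rw [← Category.assoc, w₁, wa]) *
        P G (h₂ ≫ a) (by rw [← Category.assoc, w₂, wa]) := by
  rw [MonObj.comp_mul, Tmap_comp_P, Tmap_comp_P]

/-- dual numbers over `A` -/
noncomputable abbrev AE : CommRingCat.{u} := CommRingCat.of (DualNumber (A G))

/-- dual numbers over `k` -/
noncomputable abbrev KE (k : Type u) [Field k] : CommRingCat.{u} := CommRingCat.of (DualNumber k)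

/-- `A → A[ε]` -/
noncomputable def inlA : A G ⟶ AE G := CommRingCat.ofHom inlDN

/-- `A[ε] → A` -/
noncomputable def fstA : AE G ⟶ A G := CommRingCat.ofHom fstDN

/-- `k[ε] → k` -/
noncomputable def fstK (k : Type u) [Field k] : KE k ⟶ CommRingCat.of k := CommRingCat.ofHom fstDN

/-- `A[ε] → k[ε]` -/
noncomputable def mapε : AE G ⟶ KE k := CommRingCat.ofHom (mapDN (εA G).hom)

/-- structure map of `k[ε]` -/
noncomputable def sKE (k : Type u) [Field k] : CommRingCat.of k ⟶ KE k := CommRingCat.ofHom inlDN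

/-- `k[ε] → A[ε]` -/
noncomputable def jE : KE k ⟶ AE G := CommRingCat.ofHom (mapDN (sA G).hom)

/-- structure map of `A[ε]` -/
noncomputable def sAE : CommRingCat.of k ⟶ AE G := sA G ≫ inlA G

lemma inlA_fstA : inlA G ≫ fstA G = 𝟙 _ := by
  apply CommRingCat.hom_ext
  exact fstDN_comp_inlDN

lemma sKE_jE : sKE k ≫ jE G = sAE G := by
  apply CommRingCat.hom_ext
  exact mapDN_comp_inlDN (sA G).hom

lemma jE_fstA : jE G ≫ fstA G = fstK k ≫ sA G := by
  apply CommRingCat.hom_ext
  exact fstDN_comp_mapDN (sA G).hom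

lemma jE_mapε : jE G ≫ mapε G = 𝟙 _ := by
  apply CommRingCat.hom_ext
  change (mapDN (εA G).hom).comp (mapDN (sA G).hom) = RingHom.id _
  rw [mapDN_comp]
  have : (εA G).hom.comp (sA G).hom = RingHom.id _ := by
    ext c
    exact εA_sA_apply G c
  rw [this, mapDN_id]

lemma inlA_mapε : inlA G ≫ mapε G = εA G ≫ sKE k := by
  apply CommRingCat.hom_ext
  exact mapDN_comp_inlDN (εA G).hom

lemma sAE_fstA : sAE G ≫ fstA G = sA G := by
  rw [sAE, Category.assoc, inlA_fstA, Category.comp_id]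

lemma sAE_mapε : sAE G ≫ mapε G = sKE k := by
  rw [sAE, Category.assoc, inlA_mapε, ← Category.assoc, sA_εA, Category.id_comp]

/-- the augmentation `A[ε] → k` -/
noncomputable def aR : AE G ⟶ CommRingCat.of k := fstA G ≫ εA G

lemma sAE_aR : sAE G ≫ aR G = 𝟙 _ := by
  rw [aR, ← Category.assoc, sAE_fstA, sA_εA]

instance : IsLocalHom (aR G).hom :=
  inferInstanceAs (IsLocalHom ((εA G).hom.comp fstDN))

lemma closedPoint_eq : (Spec.map (aR G)) (closedPoint k) = closedPoint (AE G) :=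
  IsLocalRing.comap_closedPoint (aR G).hom

theorem exists_derivation_of_tangent (φ : A G ⟶ KE k)
    (h1 : sA G ≫ φ = sKE k) (h2 : φ ≫ fstK k = εA G) :
    ∃ D : Derivation ℤ (A G) (A G), ∀ a, (εA G).hom (D a) = (φ.hom a).snd := by
  have w1 : sA G ≫ inlA G = sAE G := rfl
  have w2 : sA G ≫ (φ ≫ jE G) = sAE G := by rw [← Category.assoc, h1, sKE_jE]
  obtain ⟨Δs, hΔs⟩ : ∃ Δs : T (AE G) (sAE G) ⟶ G, Δs = P G _ w1 * P G _ w2 := ⟨_, rfl⟩
  have hcl : Δs.left (closedPoint (AE G)) = unitPt G := by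
    have e1 : Tmap (aR G) (sAE_aR G) ≫ Δs = 1 := by
      rw [hΔs, Tmap_comp_P_mul_P, P_eq_one, P_eq_one, _root_.mul_one]
      · rw [Category.assoc, Category.comp_id, aR, ← Category.assoc (jE G), jE_fstA,
          Category.assoc, sA_εA, Category.comp_id, h2]
      · rw [Category.comp_id, aR, ← Category.assoc, inlA_fstA, Category.id_comp]
    have e2 : Spec.map (aR G) ≫ Δs.left = (1 : T (CommRingCat.of k) (𝟙 _) ⟶ G).left := by
      rw [← e1]; rfl
    rw [← closedPoint_eq, ← Scheme.Hom.comp_apply, e2, Hom.one_def]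
    simp only [Over.comp_left, Scheme.Hom.comp_apply, unitPt]
    congr 1
  obtain ⟨Δ, _, hΔ⟩ := exists_hom_of_closedPoint Δs.left (unitPt G) hcl
  have wΔ : sA G ≫ Δ = sAE G := by
    apply Spec.map_injective
    rw [Spec.map_comp, SpecMap_sA, ← Category.assoc, hΔ]
    exact Over.w Δs
  have hPΔ : P G Δ wΔ = Δs := by
    ext
    simpa [P] using hΔ
  -- (P1)
  have hfst : Δ ≫ fstA G = 𝟙 _ := by
    have e1 : P G (Δ ≫ fstA G) (by rw [← Category.assoc, wΔ, sAE_fstA]) =
        P G (𝟙 _) (Category.comp_id _) := by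
      rw [← Tmap_comp_P G (fstA G) (sAE_fstA G) Δ wΔ, hPΔ, hΔs, Tmap_comp_P_mul_P]
      rw [P_eq_one G (sA G) ((φ ≫ jE G) ≫ fstA G), _root_.mul_one]
      · apply P_congr
        exact inlA_fstA G
      · rw [Category.assoc, jE_fstA, ← Category.assoc, h2]
    exact P_injective G _ _ e1
  -- (P2)
  have hmap : Δ ≫ mapε G = φ := by
    have e1 : P G (Δ ≫ mapε G) (by rw [← Category.assoc, wΔ, sAE_mapε]) = P G φ h1 := by
      rw [← Tmap_comp_P G (mapε G) (sAE_mapε G) Δ wΔ, hPΔ, hΔs, Tmap_comp_P_mul_P]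
      rw [P_eq_one G (sKE k) (inlA G ≫ mapε G), _root_.one_mul]
      · apply P_congr
        rw [Category.assoc, jE_mapε, Category.comp_id]
      · exact inlA_mapε G
    exact P_injective G _ _ e1
  have hfst' : ∀ a, (Δ.hom a).fst = a := fun a => by
    have := congrArg (fun f => f.hom a) hfst
    exact this
  refine ⟨derivOfHom Δ.hom hfst', fun a => ?_⟩
  rw [derivOfHom_apply]
  have := congrArg (fun f => (f.hom a).snd) hmap
  exact this

end Tangent

end Groth.Agent.Lib.Helper19.Cartier
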