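import Mathlib
import Groth.Agent.Lib.Helper19.Cartier.Points

/-!
# The group law on tangent vectors at the unit is addition

For a group object `G` of `Over (Spec k)` and `A = 𝒪_{G,e}`, tangent vectors at `e` are
local `k`-algebra maps `v : A → k[ε]`; we show `P v * P w = P (v + w)` in `G(k[ε])`.
-/

set_option autoImplicit false
universe u

open CategoryTheory CategoryTheory.Limits AlgebraicGeometry MonoidalCategory
  CartesianMonoidalCategory MonObj IsLocalRing

namespace Groth.Agent.Lib.Helper19.Cartier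

section TSZ

variable {R M : Type*} [CommRing R] [IsLocalRing R] [AddCommGroup M] [Module R M]
  [Module Rᵐᵒᵖ M] [IsCentralScalar R M]

instance isLocalRing_tsze : IsLocalRing (TrivSqZeroExt R M) := by
  have : Nontrivial (TrivSqZeroExt R M) :=
    (TrivSqZeroExt.fstHom R R M).toRingHom.domain_nontrivial
  refine IsLocalRing.of_nonunits_add ?_
  intro a b ha hb
  rw [mem_nonunits_iff, TrivSqZeroExt.isUnit_iff_isUnit_fst] at ha hb ⊢
  rw [TrivSqZeroExt.fst_add]
  exact IsLocalRing.nonunits_add ha hb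

instance isLocalHom_fstHom : IsLocalHom (TrivSqZeroExt.fstHom R R M).toRingHom :=
  ⟨fun _ ha => TrivSqZeroExt.isUnit_iff_isUnit_fst.mpr ha⟩

end TSZ

section KM

variable (k : Type u) [Field k] (M : Type u) [AddCommGroup M] [Module k M]
  [Module kᵐᵒᵖ M] [IsCentralScalar k M]

/-- `k[M]` -/
noncomputable abbrev KM : CommRingCat.{u} := CommRingCat.of (TrivSqZeroExt k M)

/-- structure map of `k[M]` -/
noncomputable def sKM : CommRingCat.of k ⟶ KM k M := CommRingCat.ofHom (TrivSqZeroExt.inlHom k M)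

/-- augmentation of `k[M]` -/
noncomputable def fstKM : KM k M ⟶ CommRingCat.of k :=
  CommRingCat.ofHom (TrivSqZeroExt.fstHom k k M).toRingHom

instance : IsLocalHom (fstKM k M).hom :=
  inferInstanceAs (IsLocalHom (TrivSqZeroExt.fstHom k k M).toRingHom)

lemma sKM_fstKM : sKM k M ≫ fstKM k M = 𝟙 _ := by
  apply CommRingCat.hom_ext
  refine RingHom.ext fun c => ?_
  rfl

variable {k M} {N : Type u} [AddCommGroup N] [Module k N] [Module kᵐᵒᵖ N] [IsCentralScalar k N]
  {N' : Type u} [AddCommGroup N'] [Module k N'] [Module kᵐᵒᵖ N'] [IsCentralScalar k N']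

/-- functoriality of `k[M]` in `M` -/
noncomputable def mapK (f : M →ₗ[k] N) : KM k M ⟶ KM k N :=
  CommRingCat.ofHom (TrivSqZeroExt.map f).toRingHom

lemma sKM_mapK (f : M →ₗ[k] N) : sKM k M ≫ mapK f = sKM k N := by
  apply CommRingCat.hom_ext
  refine RingHom.ext fun c => ?_
  exact TrivSqZeroExt.map_inl f c

lemma mapK_fstKM (f : M →ₗ[k] N) : mapK f ≫ fstKM k N = fstKM k M := by
  apply CommRingCat.hom_ext
  refine RingHom.ext fun x => ?_
  exact TrivSqZeroExt.fst_map f x

lemma mapK_comp (f : M →ₗ[k] N) (g : N →ₗ[k] N') : mapK f ≫ mapK g = mapK (g ∘ₗ f) := by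
  apply CommRingCat.hom_ext
  refine RingHom.ext fun x => ?_
  exact (congrArg (fun h => h x) (TrivSqZeroExt.map_comp_map f g)).symm

lemma mapK_id : mapK (LinearMap.id : M →ₗ[k] M) = 𝟙 _ := by
  apply CommRingCat.hom_ext
  refine RingHom.ext fun x => ?_
  exact congrArg (fun h => h x) (TrivSqZeroExt.map_id (R' := k) (M := M))

lemma mapK_zero : mapK (0 : M →ₗ[k] N) = fstKM k M ≫ sKM k N := by
  apply CommRingCat.hom_ext
  refine RingHom.ext fun x => ?_
  apply TrivSqZeroExt.ext
  · exact TrivSqZeroExt.fst_map _ x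
  · change (TrivSqZeroExt.map (0 : M →ₗ[k] N) x).snd = 0
    rw [TrivSqZeroExt.snd_map]
    rfl

lemma mapK_apply_snd (f : M →ₗ[k] N) (x : TrivSqZeroExt k M) :
    ((mapK f).hom x).snd = f x.snd := TrivSqZeroExt.snd_map f x

lemma mapK_apply_fst (f : M →ₗ[k] N) (x : TrivSqZeroExt k M) :
    ((mapK f).hom x).fst = x.fst := TrivSqZeroExt.fst_map f x

end KM

section Group

variable {k : Type u} [Field k] (G : Over (Spec (CommRingCat.of k))) [GrpObj G]

/-- A point of `G` with values in a local `k`-algebra with residue field `k`, reducing to the unit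
point, comes from a (local) ring map out of `A = 𝒪_{G,e}`. -/
lemma exists_P_eq {R : CommRingCat.{u}} [IsLocalRing R] (s : CommRingCat.of k ⟶ R)
    (a : R ⟶ CommRingCat.of k) [IsLocalHom a.hom] (hsa : s ≫ a = 𝟙 _) (Q : T R s ⟶ G)
    (hQ : Tmap a hsa ≫ Q = 1) : ∃ (ψ : A G ⟶ R) (w : sA G ≫ ψ = s), P G ψ w = Q := by
  have hcl : Q.left (closedPoint R) = unitPt G := by
    have e2 : Spec.map a ≫ Q.left = (1 : T (CommRingCat.of k) (𝟙 _) ⟶ G).left := by
      rw [← hQ]; rfl
    have e3 : (Spec.map a) (closedPoint k) = closedPoint R := IsLocalRing.comap_closedPoint a.hom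
    rw [← e3, ← Scheme.Hom.comp_apply, e2, Hom.one_def]
    simp only [Over.comp_left, Scheme.Hom.comp_apply, unitPt]
    congr 1
  obtain ⟨ψ, _, hψ⟩ := exists_hom_of_closedPoint Q.left (unitPt G) hcl
  have wψ : sA G ≫ ψ = s := by
    apply Spec.map_injective
    rw [Spec.map_comp, SpecMap_sA, ← Category.assoc, hψ]
    exact Over.w Q
  refine ⟨ψ, wψ, ?_⟩
  ext
  simpa [P] using hψ

variable {M : Type u} [AddCommGroup M] [Module k M] [Module kᵐᵒᵖ M] [IsCentralScalar k M]
  {N : Type u} [AddCommGroup N] [Module k N] [Module kᵐᵒᵖ N] [IsCentralScalar k N]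

/-- `M`-valued tangent vectors at the unit: local `k`-algebra maps `A → k[M]`. -/
structure TanVec (M : Type u) [AddCommGroup M] [Module k M] [Module kᵐᵒᵖ M]
    [IsCentralScalar k M] where
  /-- the ring map -/
  hom : A G ⟶ KM k M
  w : sA G ≫ hom = sKM k M
  aug : hom ≫ fstKM k M = εA G

variable {G}

/-- the point of `G(k[M])` of a tangent vector -/
noncomputable def TanVec.pt (v : TanVec G M) : T (KM k M) (sKM k M) ⟶ G := P G v.hom v.w

/-- push forward a tangent vector along a linear map -/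
noncomputable def TanVec.map (v : TanVec G M) (f : M →ₗ[k] N) : TanVec G N where
  hom := v.hom ≫ mapK f
  w := by rw [← Category.assoc, v.w, sKM_mapK]
  aug := by rw [Category.assoc, mapK_fstKM, v.aug]

lemma TanVec.map_pt (v : TanVec G M) (f : M →ₗ[k] N) :
    (v.map f).pt = Tmap (mapK f) (sKM_mapK f) ≫ v.pt := by
  unfold TanVec.pt TanVec.map
  rw [Tmap_comp_P]

lemma TanVec.ext {v w : TanVec G M} (h : v.hom = w.hom) : v = w := by
  cases v; cases w; cases h; rfl

lemma TanVec.pt_injective {v w : TanVec G M} (h : v.pt = w.pt) : v = w :=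
  TanVec.ext (P_injective G v.w w.w h)

lemma TanVec.map_zero_pt (v : TanVec G M) : (v.map (0 : M →ₗ[k] N)).pt = 1 := by
  unfold TanVec.pt
  apply P_eq_one
  change v.hom ≫ mapK 0 = _
  rw [mapK_zero, ← Category.assoc, v.aug]

lemma TanVec.map_id (v : TanVec G M) : v.map LinearMap.id = v := by
  apply TanVec.ext
  change v.hom ≫ mapK LinearMap.id = v.hom
  rw [mapK_id, Category.comp_id]

lemma TanVec.map_map (v : TanVec G M) {N' : Type u} [AddCommGroup N'] [Module k N']
    [Module kᵐᵒᵖ N'] [IsCentralScalar k N'] (f : M →ₗ[k] N) (g : N →ₗ[k] N') :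
    (v.map f).map g = v.map (g ∘ₗ f) := by
  apply TanVec.ext
  change (v.hom ≫ mapK f) ≫ mapK g = v.hom ≫ mapK (g ∘ₗ f)
  rw [Category.assoc, mapK_comp]

lemma TanVec.fst_apply (v : TanVec G M) (a : A G) : (v.hom.hom a).fst = (εA G).hom a :=
  congrArg (fun h => h.hom a) v.aug

/-- the product of two tangent vectors in the group `G(k[M])` is a tangent vector -/
lemma TanVec.exists_mul (v w : TanVec G M) : ∃ z : TanVec G M, z.pt = v.pt * w.pt := by
  have hQ : Tmap (fstKM k M) (sKM_fstKM k M) ≫ (v.pt * w.pt) = 1 := by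
    unfold TanVec.pt
    rw [Tmap_comp_P_mul_P, P_eq_one, P_eq_one, _root_.mul_one]
    · rw [w.aug, Category.comp_id]
    · rw [v.aug, Category.comp_id]
  obtain ⟨ψ, wψ, hψ⟩ := exists_P_eq G (sKM k M) (fstKM k M) (sKM_fstKM k M) _ hQ
  refine ⟨⟨ψ, wψ, ?_⟩, hψ⟩
  have e1 : P G (ψ ≫ fstKM k M) (by rw [← Category.assoc, wψ, sKM_fstKM]) =
      P G (εA G) (sA_εA G) := by
    rw [← Tmap_comp_P G (fstKM k M) (sKM_fstKM k M) ψ wψ, hψ, hQ, P_eq_one]
    rw [Category.comp_id]
  exact P_injective G _ _ e1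

lemma TanVec.map_mul (v w z : TanVec G M) (h : z.pt = v.pt * w.pt) (f : M →ₗ[k] N) :
    (z.map f).pt = (v.map f).pt * (w.map f).pt := by
  rw [TanVec.map_pt, TanVec.map_pt, TanVec.map_pt, h, MonObj.comp_mul]

/-- **The group law on tangent vectors is addition.** -/
theorem TanVec.snd_mul (v w z : TanVec G k) (h : z.pt = v.pt * w.pt) (a : A G) :
    (z.hom.hom a).snd = (v.hom.hom a).snd + (w.hom.hom a).snd := by
  obtain ⟨ψ, hψ⟩ := TanVec.exists_mul (v.map (LinearMap.inl k k k)) (w.map (LinearMap.inr k k k))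
  have h1 : ψ.map (LinearMap.fst k k k) = v := by
    apply TanVec.pt_injective
    rw [TanVec.map_mul _ _ _ hψ, TanVec.map_map, TanVec.map_map, LinearMap.fst_comp_inl,
      LinearMap.fst_comp_inr, TanVec.map_zero_pt, TanVec.map_id, _root_.mul_one]
  have h2 : ψ.map (LinearMap.snd k k k) = w := by
    apply TanVec.pt_injective
    rw [TanVec.map_mul _ _ _ hψ, TanVec.map_map, TanVec.map_map, LinearMap.snd_comp_inl,
      LinearMap.snd_comp_inr, TanVec.map_zero_pt, TanVec.map_id, _root_.one_mul]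
  have h3 : ψ.map (LinearMap.coprod LinearMap.id LinearMap.id) = z := by
    apply TanVec.pt_injective
    rw [TanVec.map_mul _ _ _ hψ, TanVec.map_map, TanVec.map_map, LinearMap.coprod_inl,
      LinearMap.coprod_inr, TanVec.map_id, TanVec.map_id, h]
  rw [← h3, ← h1, ← h2]
  change ((mapK _).hom (ψ.hom.hom a)).snd = ((mapK _).hom (ψ.hom.hom a)).snd +
    ((mapK _).hom (ψ.hom.hom a)).snd
  rw [mapK_apply_snd, mapK_apply_snd, mapK_apply_snd]
  rfl

end Group

end Groth.Agent.Lib.Helper19.Cartier
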