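import Mathlib
import Groth.Agent.Lib.Helper19.Cartier.TangentAdd
import Groth.Agent.Lib.Helper19.Cartier.GradedScalar
import Groth.Agent.Lib.Helper19.Compl.Scheme

/-!
# The `n`-th power map of a group scheme over a field is étale near the unit when `n ∈ kˣ`
-/

set_option autoImplicit false
universe u

open CategoryTheory CategoryTheory.Limits AlgebraicGeometry MonoidalCategory
  CartesianMonoidalCategory MonObj IsLocalRing

namespace Groth.Agent.Lib.Helper19.Cartier

variable {k : Type u} [Field k] {G : Over (Spec (CommRingCat.of k))} [GrpObj G]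

section Pow

variable {M : Type u} [AddCommGroup M] [Module k M] [Module kᵐᵒᵖ M] [IsCentralScalar k M]

variable (G M) in
/-- the zero tangent vector -/
noncomputable def TanVec.zero : TanVec G M where
  hom := εA G ≫ sKM k M
  w := by rw [← Category.assoc, sA_εA, Category.id_comp]
  aug := by rw [Category.assoc, sKM_fstKM, Category.comp_id]

lemma TanVec.zero_pt : (TanVec.zero G M).pt = 1 := by
  unfold TanVec.pt
  exact P_eq_one G _ _ _ rfl

lemma TanVec.zero_snd (a : A G) : ((TanVec.zero G M).hom.hom a).snd = 0 := rfl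

theorem TanVec.exists_pow (v : TanVec G k) (n : ℕ) :
    ∃ z : TanVec G k, z.pt = v.pt ^ n ∧ ∀ a, (z.hom.hom a).snd = n • (v.hom.hom a).snd := by
  induction n with
  | zero =>
    exact ⟨TanVec.zero G k, by rw [TanVec.zero_pt, pow_zero], fun a => by
      rw [TanVec.zero_snd, zero_smul]⟩
  | succ n ih =>
    obtain ⟨zn, h1, h2⟩ := ih
    obtain ⟨z, hz⟩ := TanVec.exists_mul zn v
    refine ⟨z, by rw [hz, h1, pow_succ], fun a => ?_⟩
    rw [TanVec.snd_mul zn v z hz a, h2 a, succ_nsmul]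

/-- the tangent vector attached to a functional on the cotangent space -/
noncomputable def TanVec.ofDual
    (v' : CotangentSpace (A G) →ₗ[ResidueField (A G)] ResidueField (A G)) : TanVec G k where
  hom := CommRingCat.ofHom
    (tangentHom (A := A G) (k := k) (εA G).hom (sA G).hom (εA_sA_apply G) v')
  w := by
    apply CommRingCat.hom_ext
    exact tangentHom_comp (A := A G) (k := k) (εA G).hom (sA G).hom (εA_sA_apply G) v'
  aug := by
    apply CommRingCat.hom_ext
    refine RingHom.ext fun a => ?_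
    rfl

lemma TanVec.ofDual_snd_of_mem
    (v' : CotangentSpace (A G) →ₗ[ResidueField (A G)] ResidueField (A G))
    (x : maximalIdeal (A G)) :
    ((TanVec.ofDual v').hom.hom x).snd =
      ResidueField.lift (εA G).hom (v' ((maximalIdeal (A G)).toCotangent x)) :=
  snd_tangentHom_of_mem (A := A G) (k := k) (εA G).hom (sA G).hom (εA_sA_apply G) v' x

end Pow

section Stalk

/-- the stalk map at the unit of a unit-preserving endomorphism of `G` -/
theorem exists_stalkHom (u : G ⟶ G) (hu : η[G] ≫ u = η[G]) :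
    ∃ (φ : A G ⟶ A G) (w : sA G ≫ φ = sA G), P G φ w = can G ≫ u := by
  refine exists_P_eq G (sA G) (εA G) (sA_εA G) (can G ≫ u) ?_
  rw [← Category.assoc, Tmap_comp_can_eq_one G (𝟙 _) (εA G) (sA_εA G) (Category.comp_id _).symm,
    Hom.one_def, Category.assoc, hu]

lemma TanVec.pt_comp (u : G ⟶ G) (φ : A G ⟶ A G) (w : sA G ≫ φ = sA G)
    (hφ : P G φ w = can G ≫ u) (v : TanVec G k) :
    v.pt ≫ u = P G (φ ≫ v.hom) (by rw [← Category.assoc, w, v.w]) := by
  unfold TanVec.pt
  rw [← Tmap_comp_P G v.hom v.w φ w, hφ]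
  unfold P
  rw [Category.assoc]

lemma stalkHom_aug (u : G ⟶ G) (hu : η[G] ≫ u = η[G]) (φ : A G ⟶ A G) (w : sA G ≫ φ = sA G)
    (hφ : P G φ w = can G ≫ u) : φ ≫ εA G = εA G := by
  have e1 : P G (φ ≫ εA G) (by rw [← Category.assoc, w, sA_εA]) = P G (εA G) (sA_εA G) := by
    rw [← Tmap_comp_P G (εA G) (sA_εA G) φ w, hφ, ← Category.assoc,
      Tmap_comp_can_eq_one G (𝟙 _) (εA G) (sA_εA G) (Category.comp_id _).symm,
      P_eq_one G (𝟙 _) (εA G) (sA_εA G) (Category.comp_id _).symm,
      Hom.one_def, Category.assoc, hu]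
  exact P_injective G _ _ e1

lemma stalkHom_sub_mem (u : G ⟶ G) (hu : η[G] ≫ u = η[G]) (φ : A G ⟶ A G)
    (w : sA G ≫ φ = sA G) (hφ : P G φ w = can G ≫ u) (x : A G) :
    φ.hom x - x ∈ maximalIdeal (A G) := by
  rw [← ker_eq_maximalIdeal (A := A G) (k := k) (εA G).hom (sA G).hom (εA_sA_apply G),
    RingHom.mem_ker, map_sub, sub_eq_zero]
  exact congrArg (fun h => h.hom x) (stalkHom_aug u hu φ w hφ)

theorem stalkHom_pow_spec (n : ℕ) (φ : A G ⟶ A G) (w : sA G ≫ φ = sA G)
    (hφ : P G φ w = can G ≫ (𝟙 G : G ⟶ G) ^ n) (x : A G) (hx : x ∈ maximalIdeal (A G)) :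
    φ.hom x - (n : A G) * x ∈ maximalIdeal (A G) ^ 2 := by
  have hu : η[G] ≫ (𝟙 G : G ⟶ G) ^ n = η[G] := by
    rw [MonObj.comp_pow, Category.comp_id]
    have : η[G] = (1 : 𝟙_ _ ⟶ G) := by rw [Hom.one_def]; simp
    rw [this, one_pow]
  have h0 := stalkHom_sub_mem _ hu φ w hφ
  have hφx : φ.hom x ∈ maximalIdeal (A G) := by
    have := add_mem (h0 x) hx
    rwa [sub_add_cancel] at this
  rw [← nsmul_eq_mul]
  have hy : φ.hom x - n • x ∈ maximalIdeal (A G) :=
    sub_mem hφx (by rw [nsmul_eq_mul]; exact Ideal.mul_mem_left _ _ hx)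
  rw [← Ideal.toCotangent_eq_zero _ ⟨_, hy⟩]
  rw [← Module.forall_dual_apply_eq_zero_iff (ResidueField (A G))]
  intro v'
  obtain ⟨z, hz1, hz2⟩ := (TanVec.ofDual v').exists_pow n
  have e1 : (TanVec.ofDual v').pt ≫ (𝟙 G : G ⟶ G) ^ n = z.pt := by
    rw [MonObj.comp_pow, Category.comp_id, hz1]
  rw [TanVec.pt_comp _ φ w hφ] at e1
  have e2 : φ ≫ (TanVec.ofDual v').hom = z.hom := P_injective G _ _ e1
  have e3 : ((TanVec.ofDual v').hom.hom (φ.hom x)).snd =
      n • ((TanVec.ofDual v').hom.hom x).snd := by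
    rw [← hz2 x, ← e2]
    rfl
  have e4 : ((TanVec.ofDual v').hom.hom (φ.hom x - n • x)).snd = 0 := by
    rw [map_sub, map_nsmul, TrivSqZeroExt.snd_sub, TrivSqZeroExt.snd_smul, e3, sub_self]
  have e5 := TanVec.ofDual_snd_of_mem v' ⟨_, hy⟩
  rw [e4] at e5
  exact (map_eq_zero_iff _ (RingHom.injective _)).mp e5.symm

end Stalk

section Etale

variable [LocallyOfFiniteType G.hom]

lemma pow_unit (n : ℕ) : η[G] ≫ (𝟙 G : G ⟶ G) ^ n = η[G] := by
  rw [MonObj.comp_pow, Category.comp_id]
  have : η[G] = (1 : 𝟙_ _ ⟶ G) := by rw [Hom.one_def]; simp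
  rw [this, one_pow]

/-- The `n`-th power map of a group scheme locally of finite type over a field `k` is étale in a
neighbourhood of the unit as soon as `n` is invertible in `k`. -/
theorem exists_nhd_etale_pow (n : ℕ) (hn : (n : k) ≠ 0) :
    ∃ U : G.left.Opens, unitPt G ∈ U ∧ Etale (U.ι ≫ ((𝟙 G : G ⟶ G) ^ n).left) := by
  obtain ⟨u, hudef⟩ : ∃ u : G ⟶ G, u = (𝟙 G : G ⟶ G) ^ n := ⟨_, rfl⟩
  rw [← hudef]
  have hu : η[G] ≫ u = η[G] := by rw [hudef]; exact pow_unit n
  obtain ⟨φ, w, hφ⟩ := exists_stalkHom u hu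
  have hNoeth : IsLocallyNoetherian G.left := LocallyOfFiniteType.isLocallyNoetherian G.hom
  have hlft : LocallyOfFiniteType u.left := by
    have : LocallyOfFiniteType (u.left ≫ G.hom) := by rw [Over.w u]; infer_instance
    exact locallyOfFiniteType_of_comp u.left G.hom
  have hφspec : Spec.map φ ≫ G.left.fromSpecStalk (unitPt G) =
      G.left.fromSpecStalk (unitPt G) ≫ u.left := by
    have := congrArg (fun f => f.left) hφ
    simpa [P] using this
  have hunit : IsUnit ((n : ℕ) : A G) := by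
    have h1 : IsUnit ((n : k)) := hn.isUnit
    have h2 := h1.map (sA G).hom
    rwa [map_natCast] at h2
  have hspec := surjective_and_ker_of_sub_mul_mem_sq (A := A G) φ.hom (n : A G) hunit
    (map_natCast _ n) (stalkHom_sub_mem u hu φ w hφ)
    (fun x hx => stalkHom_pow_spec n φ w (by rw [← hudef]; exact hφ) x hx)
  have key : ∀ (y : G.left) (hy : y = unitPt G) (ψ : G.left.presheaf.stalk y ⟶ A G)
      (_ : IsLocalHom ψ.hom)
      (_ : Spec.map ψ ≫ G.left.fromSpecStalk y = G.left.fromSpecStalk (unitPt G) ≫ u.left),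
      Function.Surjective (ResidueField.map ψ.hom) ∧
        ∀ j : ℕ, Function.Surjective ((Ideal.Quotient.mk (maximalIdeal (A G) ^ j)).comp ψ.hom) ∧
          RingHom.ker ((Ideal.Quotient.mk (maximalIdeal (A G) ^ j)).comp ψ.hom) =
            maximalIdeal (G.left.presheaf.stalk y) ^ j := by
    intro y hy ψ _ hψ
    subst hy
    have hψφ : ψ = φ := hom_eq_of_SpecMap_comp_fromSpecStalk (unitPt G) (hψ.trans hφspec.symm)
    subst hψφ
    refine ⟨?_, hspec⟩
    intro r
    obtain ⟨a, rfl⟩ := IsLocalRing.residue_surjective r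
    refine ⟨IsLocalRing.residue _ a, ?_⟩
    rw [ResidueField.map_residue]
    have := stalkHom_sub_mem u hu ψ w hφ a
    rw [← Ideal.Quotient.eq] at this
    exact this
  have hue : u.left (unitPt G) = unitPt G := by
    have := congrArg (fun f => f.left (closedPoint k)) hu
    simpa [unitPt] using this
  obtain ⟨h1, h2⟩ := key (u.left (unitPt G)) hue (u.left.stalkMap (unitPt G)) inferInstance
    (Scheme.SpecMap_stalkMap_fromSpecStalk u.left)
  exact (exists_nhd_etale_iff_forall_bijective u.left (unitPt G) (Or.inl h1)).mpr h2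

end Etale

end Groth.Agent.Lib.Helper19.Cartier
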