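import Mathlib
import Groth.Agent.Lib.Helper19.Cartier.PowerMap
import Groth.Agent.Lib.Helper19.Grp.EtaleOfUnit

/-!
# Multiplication by `n` on an abelian variety is étale iff `n ∈ kˣ`
-/

set_option autoImplicit false
universe u

open CategoryTheory CategoryTheory.Limits AlgebraicGeometry MonoidalCategory
  CartesianMonoidalCategory MonObj IsLocalRing

namespace Groth.Agent.Lib.Helper19.Cartier

variable {k : Type u} [Field k] {G : Over (Spec (CommRingCat.of k))} [GrpObj G]
  [LocallyOfFiniteType G.hom]

/-- Étaleness near the unit of a unit-preserving endomorphism, in terms of its stalk map. -/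
theorem exists_nhd_etale_iff_stalkHom (u : G ⟶ G) (hu : η[G] ≫ u = η[G]) (φ : A G ⟶ A G)
    (w : sA G ≫ φ = sA G) (hφ : P G φ w = can G ≫ u) :
    (∃ U : G.left.Opens, unitPt G ∈ U ∧ Etale (U.ι ≫ u.left)) ↔
      ∀ j : ℕ, Function.Surjective ((Ideal.Quotient.mk (maximalIdeal (A G) ^ j)).comp φ.hom) ∧
        RingHom.ker ((Ideal.Quotient.mk (maximalIdeal (A G) ^ j)).comp φ.hom) =
          maximalIdeal (A G) ^ j := by
  have hNoeth : IsLocallyNoetherian G.left := LocallyOfFiniteType.isLocallyNoetherian G.hom
  have hlft : LocallyOfFiniteType u.left := by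
    have : LocallyOfFiniteType (u.left ≫ G.hom) := by rw [Over.w u]; infer_instance
    exact locallyOfFiniteType_of_comp u.left G.hom
  have hφspec : Spec.map φ ≫ G.left.fromSpecStalk (unitPt G) =
      G.left.fromSpecStalk (unitPt G) ≫ u.left := by
    have := congrArg (fun f => f.left) hφ
    simpa [P] using this
  have key : ∀ (y : G.left) (hy : y = unitPt G) (ψ : G.left.presheaf.stalk y ⟶ A G)
      (_ : IsLocalHom ψ.hom)
      (_ : Spec.map ψ ≫ G.left.fromSpecStalk y = G.left.fromSpecStalk (unitPt G) ≫ u.left),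
      Function.Surjective (ResidueField.map ψ.hom) ∧
        ((∀ j : ℕ, Function.Surjective
            ((Ideal.Quotient.mk (maximalIdeal (A G) ^ j)).comp ψ.hom) ∧
          RingHom.ker ((Ideal.Quotient.mk (maximalIdeal (A G) ^ j)).comp ψ.hom) =
            maximalIdeal (G.left.presheaf.stalk y) ^ j) ↔
        ∀ j : ℕ, Function.Surjective ((Ideal.Quotient.mk (maximalIdeal (A G) ^ j)).comp φ.hom) ∧
          RingHom.ker ((Ideal.Quotient.mk (maximalIdeal (A G) ^ j)).comp φ.hom) =
            maximalIdeal (A G) ^ j) := by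
    intro y hy ψ _ hψ
    subst hy
    have hψφ : ψ = φ := hom_eq_of_SpecMap_comp_fromSpecStalk (unitPt G) (hψ.trans hφspec.symm)
    subst hψφ
    refine ⟨?_, Iff.rfl⟩
    intro r
    obtain ⟨a, rfl⟩ := IsLocalRing.residue_surjective r
    refine ⟨IsLocalRing.residue _ a, ?_⟩
    rw [ResidueField.map_residue]
    have := stalkHom_sub_mem u hu ψ w hφ a
    rw [← Ideal.Quotient.eq] at this
    exact this
  have hue : u.left (unitPt G) = unitPt G := by
    have := congrArg (fun f => f.left (closedPoint k)) hu
    simpa [unitPt] using this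
  obtain ⟨h1, h2⟩ := key (u.left (unitPt G)) hue (u.left.stalkMap (unitPt G)) inferInstance
    (Scheme.SpecMap_stalkMap_fromSpecStalk u.left)
  rw [exists_nhd_etale_iff_forall_bijective u.left (unitPt G) (Or.inl h1)]
  exact h2

lemma isClosed_singleton_unitPt : IsClosed ({unitPt G} : Set G.left) := by
  have h := (η[G].left).isClosedEmbedding.isClosed_range
  have e : Set.range (η[G].left) = {unitPt G} := by
    ext y
    constructor
    · rintro ⟨p, rfl⟩
      have : p = closedPoint k := Subsingleton.elim (α := PrimeSpectrum k) _ _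
      rw [this]
      rfl
    · rintro rfl
      exact ⟨closedPoint k, rfl⟩
  rwa [e] at h

/-- If the `n`-th power map of an irreducible positive-dimensional group scheme locally of finite
type over `k` is étale, then `n` is invertible in `k`. -/
theorem natCast_ne_zero_of_etale_pow [IrreducibleSpace G.left]
    (hdim : 0 < topologicalKrullDim G.left) (n : ℕ)
    (hE : Etale ((𝟙 G : G ⟶ G) ^ n).left) : (n : k) ≠ 0 := by
  intro hn
  have hNoeth : IsLocallyNoetherian G.left := LocallyOfFiniteType.isLocallyNoetherian G.hom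
  obtain ⟨φ, w, hφ⟩ := exists_stalkHom ((𝟙 G : G ⟶ G) ^ n) (pow_unit n)
  have h := (exists_nhd_etale_iff_stalkHom _ (pow_unit n) φ w hφ).mp
    ⟨⊤, trivial, inferInstance⟩
  obtain ⟨-, hker⟩ := h 2
  have hnA : ((n : ℕ) : A G) = 0 := by
    have := congrArg (sA G).hom hn
    rwa [map_natCast, map_zero] at this
  have hle : maximalIdeal (A G) ≤ maximalIdeal (A G) ^ 2 := by
    intro x hx
    rw [← hker, RingHom.mem_ker, RingHom.comp_apply, Ideal.Quotient.eq_zero_iff_mem]
    have := stalkHom_pow_spec n φ w hφ x hx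
    rwa [hnA, zero_mul, sub_zero] at this
  have hbot : maximalIdeal (A G) = ⊥ := by
    apply Submodule.eq_bot_of_le_smul_of_le_jacobson_bot (maximalIdeal (A G))
      (maximalIdeal (A G)) (IsNoetherian.noetherian _)
    · rw [smul_eq_mul, ← pow_two]; exact hle
    · exact IsLocalRing.maximalIdeal_le_jacobson _
  have hgen : ∀ z : G.left, z ⤳ unitPt G → z = unitPt G := by
    intro z hz
    have hz' : z ∈ Set.range (G.left.fromSpecStalk (unitPt G)) := by
      rw [Scheme.range_fromSpecStalk]; exact hz
    obtain ⟨p, rfl⟩ := hz'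
    have hp : p = closedPoint (A G) := by
      apply PrimeSpectrum.ext
      have h1 : p.asIdeal ≤ maximalIdeal (A G) := IsLocalRing.le_maximalIdeal p.2.ne_top
      rw [hbot] at h1
      change p.asIdeal = maximalIdeal (A G)
      rw [hbot]
      exact le_bot_iff.mp h1
    rw [hp, Scheme.fromSpecStalk_closedPoint]
  have hsub : ∀ y : G.left, y = unitPt G := by
    intro y
    have hξ := hgen _ (genericPoint_specializes (unitPt G))
    have h1 : unitPt G ⤳ y := hξ ▸ genericPoint_specializes y
    exact h1.mem_closed isClosed_singleton_unitPt (Set.mem_singleton _)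
  haveI : Subsingleton G.left := ⟨fun a b => (hsub a).trans (hsub b).symm⟩
  have := topologicalKrullDim_zero_of_discreteTopology G.left
  exact absurd hdim (not_lt.mpr this)

section AbVar

variable (K : Type u) [Field K] (A : Over (Spec (CommRingCat.of K))) [GrpObj A] [IsProper A.hom]
  [GeometricallyIntegral A.hom]

theorem etale_pow_iff (hA : 0 < topologicalKrullDim A.left) (n : ℕ) :
    Etale ((𝟙 A : A ⟶ A) ^ n).left ↔ (n : K) ≠ 0 := by
  haveI : IsCommMonObj A := isCommMonObj_of_isProper_of_geometricallyIntegral A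
  haveI : IsIntegral A.left := GeometricallyIntegral.isIntegral_of_subsingleton A.hom
  constructor
  · exact natCast_ne_zero_of_etale_pow hA n
  · intro hn
    haveI : IsMonHom ((𝟙 A : A ⟶ A) ^ n) := isMonHom_pow' _ n
    obtain ⟨U, hU, hE⟩ := exists_nhd_etale_pow (G := A) n hn
    exact etale_of_etale_nhd_unit K A A _ (IsLocalRing.closedPoint K) ⟨U, hU, hE⟩

theorem etale_zpow_iff (hA : 0 < topologicalKrullDim A.left) (d : ℤ) :
    Etale ((𝟙 A : A ⟶ A) ^ d).left ↔ (d : K) ≠ 0 := by
  rcases d with n | n
  · rw [Int.ofNat_eq_natCast, zpow_natCast, Int.cast_natCast]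
    exact etale_pow_iff K A hA n
  · rw [zpow_negSucc, Int.cast_negSucc, neg_ne_zero, ← etale_pow_iff K A hA (n + 1), Hom.inv_def,
      Over.comp_left]
    haveI : IsIso (ι[A]).left := inferInstanceAs (IsIso ((Over.forget _).map ι[A]))
    exact MorphismProperty.cancel_right_of_respectsIso (P := @Etale) _ _

end AbVar

end Groth.Agent.Lib.Helper19.Cartier
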