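import Mathlib

/-!
# Local rings of characteristic zero with enough derivations are domains

Let `A` be a Noetherian local ring in which every positive integer is invertible.

* `mem_nonZeroDivisors_of_derivation`: if `D` is a derivation of `A` and `f ∈ 𝔪` with `D f = 1`,
  then `f` is a nonzerodivisor (Zariski's lemma, elementary version).
* `isDomain_of_derivations`: if `𝔪 = (x₁, …, x_N)` and there are derivations `D₁, …, D_N` with
  `Dᵢ xⱼ ≡ δᵢⱼ mod 𝔪`, then `A` is a domain.  (It is in fact regular; we only need reducedness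
  for Cartier's theorem.)
-/

set_option autoImplicit false
universe u

open IsLocalRing

namespace Groth.Agent.Lib.Helper19.Cartier

section LemmaA

variable {A : Type*} [CommRing A]

/-- the annihilator of `f ^ n` -/
def annPow (f : A) (n : ℕ) : Ideal A := LinearMap.ker (LinearMap.mulLeft A (f ^ n))

lemma mem_annPow {f : A} {n : ℕ} {g : A} : g ∈ annPow f n ↔ f ^ n * g = 0 := by
  simp [annPow]

lemma annPow_mono (f : A) {n m : ℕ} (h : n ≤ m) : annPow f n ≤ annPow f m := by
  intro g hg
  rw [mem_annPow] at hg ⊢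
  obtain ⟨k, rfl⟩ := Nat.exists_eq_add_of_le h
  rw [pow_add, mul_comm (f ^ n), mul_assoc, hg, mul_zero]

theorem mem_nonZeroDivisors_of_derivation [IsLocalRing A] [IsNoetherianRing A]
    (hQ : ∀ n : ℕ, n ≠ 0 → IsUnit (n : A)) (D : Derivation ℤ A A) (f : A)
    (hf : f ∈ maximalIdeal A) (hD : D f = 1) : f ∈ nonZeroDivisors A := by
  let J : Ideal A := ⨆ n, annPow f n
  have hle : ∀ n, annPow f n ≤ J := fun n => le_iSup (annPow f) n
  have key : ∀ n, annPow f n ≤ Ideal.span {f} * J := by
    intro n
    induction n with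
    | zero =>
      intro g hg
      rw [mem_annPow, pow_zero, one_mul] at hg
      rw [hg]
      exact zero_mem _
    | succ n ih =>
      intro g hg
      rw [mem_annPow] at hg
      have h1 : D (f ^ (n + 1) * g) = 0 := by rw [hg, map_zero]
      rw [Derivation.leibniz, Derivation.leibniz_pow, hD] at h1
      simp only [smul_eq_mul, Nat.add_sub_cancel, mul_one, nsmul_eq_mul] at h1
      -- h1 : f ^ (n+1) * D g + g * ((n+1) * f ^ n) = 0
      have h2 : f ^ n * (f * D g + ((n + 1 : ℕ) : A) * g) = 0 := by
        have : f ^ n * (f * D g + ((n + 1 : ℕ) : A) * g) =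
            f ^ (n + 1) * D g + g * (((n + 1 : ℕ) : A) * f ^ n) := by
          rw [pow_succ]; ring
        rw [this]
        exact h1
      have h3 : f * D g + ((n + 1 : ℕ) : A) * g ∈ Ideal.span {f} * J := ih (mem_annPow.mpr h2)
      have h4 : D g ∈ J := by
        refine hle (n + 2) (mem_annPow.mpr ?_)
        have : f ^ (n + 2) * D g = f * (f ^ n * (f * D g + ((n + 1 : ℕ) : A) * g)) -
            ((n + 1 : ℕ) : A) * (f ^ (n + 1) * g) := by
          ring
        rw [this, h2, hg, mul_zero, mul_zero, sub_zero]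
      have h5 : f * D g ∈ Ideal.span {f} * J :=
        Ideal.mul_mem_mul (Ideal.mem_span_singleton_self f) h4
      have h6 : ((n + 1 : ℕ) : A) * g ∈ Ideal.span {f} * J := by
        have := sub_mem h3 h5
        rwa [add_sub_cancel_left] at this
      obtain ⟨u, hu⟩ := hQ (n + 1) (Nat.succ_ne_zero n)
      have : g = (↑u⁻¹ : A) * (((n + 1 : ℕ) : A) * g) := by
        rw [← mul_assoc, ← hu, Units.inv_mul, one_mul]
      rw [this]
      exact Ideal.mul_mem_left _ _ h6
  have hJ : J ≤ Ideal.span {f} • J := by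
    refine iSup_le fun n => ?_
    exact key n
  have hJ0 : J = ⊥ := by
    refine Submodule.eq_bot_of_le_smul_of_le_jacobson_bot (Ideal.span {f}) J
      (IsNoetherian.noetherian J) hJ ?_
    rw [jacobson_eq_maximalIdeal ⊥ bot_ne_top, Ideal.span_singleton_le_iff_mem]
    exact hf
  rw [mem_nonZeroDivisors_iff_right]
  intro g hg
  have : g ∈ J := hle 1 (mem_annPow.mpr (by rw [pow_one, mul_comm]; exact hg))
  rw [hJ0] at this
  exact this

end LemmaA

section Quot

variable {A : Type*} [CommRing A]

/-- additive endomorphism of a quotient induced by an additive endomorphism stabilising the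
ideal -/
def quotAddHom (E : A →+ A) (I : Ideal A) (h : ∀ a ∈ I, E a ∈ I) : (A ⧸ I) →+ (A ⧸ I) :=
  QuotientAddGroup.map I.toAddSubgroup I.toAddSubgroup E (fun a ha => h a ha)

lemma quotAddHom_mk (E : A →+ A) (I : Ideal A) (h : ∀ a ∈ I, E a ∈ I) (a : A) :
    quotAddHom E I h (Ideal.Quotient.mk I a) = Ideal.Quotient.mk I (E a) := rfl

/-- derivation induced on a quotient -/
noncomputable def quotDerivation (E : Derivation ℤ A A) (I : Ideal A) (h : ∀ a ∈ I, E a ∈ I) :
    Derivation ℤ (A ⧸ I) (A ⧸ I) :=
  Derivation.mk' (quotAddHom (E : A →ₗ[ℤ] A).toAddMonoidHom I h).toIntLinearMap (by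
    intro a b
    obtain ⟨a, rfl⟩ := Ideal.Quotient.mk_surjective a
    obtain ⟨b, rfl⟩ := Ideal.Quotient.mk_surjective b
    change quotAddHom _ I h (Ideal.Quotient.mk I a * Ideal.Quotient.mk I b) =
      Ideal.Quotient.mk I a • quotAddHom _ I h (Ideal.Quotient.mk I b) +
        Ideal.Quotient.mk I b • quotAddHom _ I h (Ideal.Quotient.mk I a)
    rw [← map_mul, quotAddHom_mk, quotAddHom_mk, quotAddHom_mk]
    simp only [LinearMap.toAddMonoidHom_coe, Derivation.coeFn_coe, Derivation.leibniz,
      smul_eq_mul, map_add, map_mul])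

lemma quotDerivation_mk (E : Derivation ℤ A A) (I : Ideal A) (h : ∀ a ∈ I, E a ∈ I) (a : A) :
    quotDerivation E I h (Ideal.Quotient.mk I a) = Ideal.Quotient.mk I (E a) := rfl

end Quot

section Domain

/-- If `x` is a nonzerodivisor generating a prime ideal in a Noetherian local ring, the ring is
a domain. -/
theorem isDomain_of_prime_span_singleton {A : Type*} [CommRing A] [IsLocalRing A]
    [IsNoetherianRing A] (x : A) (hx : x ∈ nonZeroDivisors A) (hm : x ∈ maximalIdeal A)
    (hp : (Ideal.span {x}).IsPrime) : IsDomain A := by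
  have hne : Ideal.span {x} ≠ ⊤ := hp.ne_top
  have hkrull : ⨅ i, Ideal.span {x} ^ i = ⊥ := Ideal.iInf_pow_eq_bot_of_isLocalRing _ hne
  -- every nonzero element is `x ^ n * a'` with `a' ∉ (x)`
  have decomp : ∀ a : A, a ≠ 0 → ∃ (n : ℕ) (a' : A), a = x ^ n * a' ∧ a' ∉ Ideal.span {x} := by
    intro a ha
    have hex : ∃ n, a ∉ Ideal.span {x} ^ n := by
      by_contra hcon
      push Not at hcon
      have : a ∈ ⨅ i, Ideal.span {x} ^ i := by
        rw [Ideal.mem_iInf]; exact hcon
      rw [hkrull] at this
      exact ha this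
    classical
    let n := Nat.find hex
    have hn : a ∉ Ideal.span {x} ^ n := Nat.find_spec hex
    have hn0 : n ≠ 0 := by
      intro h0
      rw [h0, pow_zero, Ideal.one_eq_top] at hn
      exact hn trivial
    obtain ⟨m, hm'⟩ := Nat.exists_eq_succ_of_ne_zero hn0
    have hmem : a ∈ Ideal.span {x} ^ m := by
      by_contra hcon
      have := Nat.find_min' hex hcon
      omega
    rw [Ideal.span_singleton_pow, Ideal.mem_span_singleton'] at hmem
    obtain ⟨a', ha'⟩ := hmem
    refine ⟨m, a', by rw [← ha', mul_comm], ?_⟩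
    intro hcon
    rw [Ideal.mem_span_singleton'] at hcon
    obtain ⟨b, hb⟩ := hcon
    apply hn
    rw [hm', Ideal.span_singleton_pow, Ideal.mem_span_singleton']
    exact ⟨b, by rw [← ha', ← hb, pow_succ]; ring⟩
  have hnzd : ∀ n : ℕ, x ^ n ∈ nonZeroDivisors A := fun n => pow_mem hx n
  have : NoZeroDivisors A := by
    refine ⟨fun {a b} hab => ?_⟩
    by_contra hcon
    push Not at hcon
    obtain ⟨n, a', rfl, ha'⟩ := decomp a hcon.1
    obtain ⟨m, b', rfl, hb'⟩ := decomp b hcon.2
    have h1 : x ^ (n + m) * (a' * b') = 0 := by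
      rw [← hab, pow_add]; ring
    have h2 : a' * b' = 0 := by
      have := (mem_nonZeroDivisors_iff_right.mp (hnzd (n + m))) (a' * b')
      exact this (by rw [mul_comm]; exact h1)
    have h3 : a' * b' ∈ Ideal.span {x} := by rw [h2]; exact zero_mem _
    rcases hp.mem_or_mem h3 with h | h
    · exact ha' h
    · exact hb' h
  exact NoZeroDivisors.to_isDomain A

end Domain

end Groth.Agent.Lib.Helper19.Cartier

namespace Groth.Agent.Lib.Helper19.Cartier

open Classical in
/-- Main algebraic theorem: a Noetherian local `ℚ`-like ring whose maximal ideal is generated by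
`x₁, …, x_N` and which has derivations `Dᵢ` with `Dᵢ xⱼ ≡ δᵢⱼ mod 𝔪` is a domain. -/
theorem isDomain_of_derivations (N : ℕ) : ∀ (A : Type u) [CommRing A] [IsLocalRing A]
    [IsNoetherianRing A] (_ : ∀ n : ℕ, n ≠ 0 → IsUnit (n : A)) (x : Fin N → A)
    (D : Fin N → Derivation ℤ A A) (_ : Ideal.span (Set.range x) = maximalIdeal A)
    (_ : ∀ i j, D i (x j) - (if i = j then 1 else 0) ∈ maximalIdeal A), IsDomain A := by
  induction N with
  | zero =>
    intro A _ _ _ hQ x D hx hD
    have : maximalIdeal A = ⊥ := by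
      rw [← hx]
      have : Set.range x = ∅ := Set.range_eq_empty x
      rw [this, Ideal.span_empty]
    exact (isField_iff_maximalIdeal_eq.mpr this).isDomain
  | succ N ih =>
    intro A _ _ _ hQ x D hx hD
    set x₀ := x 0 with hx₀
    have hx₀m : x₀ ∈ maximalIdeal A := by
      rw [← hx]; exact Ideal.subset_span ⟨0, rfl⟩
    -- normalise `D 0`
    have hu : IsUnit (D 0 x₀) := by
      have h1 := hD 0 0
      simp only [if_true] at h1
      by_contra hcon
      have h2 : D 0 x₀ ∈ maximalIdeal A := hcon
      have h3 : (1 : A) ∈ maximalIdeal A := by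
        have := sub_mem h2 h1
        rwa [sub_sub_cancel] at this
      exact (maximalIdeal.isMaximal A).ne_top ((Ideal.eq_top_iff_one _).mpr h3)
    obtain ⟨u, hu⟩ := hu
    let D₀ : Derivation ℤ A A := (↑u⁻¹ : A) • D 0
    have hD₀ : D₀ x₀ = 1 := by
      change (↑u⁻¹ : A) • D 0 x₀ = 1
      rw [← hu, smul_eq_mul, Units.inv_mul]
    have hnzd : x₀ ∈ nonZeroDivisors A := mem_nonZeroDivisors_of_derivation hQ D₀ x₀ hx₀m hD₀
    -- the quotient
    let I : Ideal A := Ideal.span {x₀}
    have hI : I ≤ maximalIdeal A := (Ideal.span_singleton_le_iff_mem _).mpr hx₀m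
    have hIne : I ≠ ⊤ := fun h => (maximalIdeal.isMaximal A).ne_top (top_le_iff.mp (h ▸ hI))
    have : Nontrivial (A ⧸ I) := Ideal.Quotient.nontrivial_iff.mpr hIne
    have : IsLocalRing (A ⧸ I) :=
      IsLocalRing.of_surjective' (Ideal.Quotient.mk I) Ideal.Quotient.mk_surjective
    -- modified derivations
    let E : Fin N → Derivation ℤ A A := fun i => D i.succ - (D i.succ x₀) • D₀
    have hE₀ : ∀ i, E i x₀ = 0 := by
      intro i
      change D i.succ x₀ - (D i.succ x₀) • D₀ x₀ = 0
      rw [hD₀, smul_eq_mul, mul_one, sub_self]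
    have hEI : ∀ i, ∀ a ∈ I, E i a ∈ I := by
      intro i a ha
      rw [Ideal.mem_span_singleton'] at ha
      obtain ⟨b, rfl⟩ := ha
      rw [Derivation.leibniz, hE₀ i, smul_zero, zero_add, smul_eq_mul]
      exact Ideal.mul_mem_right _ _ (Ideal.mem_span_singleton_self x₀)
    let D' : Fin N → Derivation ℤ (A ⧸ I) (A ⧸ I) := fun i => quotDerivation (E i) I (hEI i)
    let x' : Fin N → A ⧸ I := fun j => Ideal.Quotient.mk I (x j.succ)
    have hQ' : ∀ n : ℕ, n ≠ 0 → IsUnit (n : A ⧸ I) := by
      intro n hn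
      have := (hQ n hn).map (Ideal.Quotient.mk I)
      rwa [map_natCast] at this
    have hmax' : maximalIdeal (A ⧸ I) = (maximalIdeal A).map (Ideal.Quotient.mk I) := by
      symm
      apply eq_maximalIdeal
      refine (Ideal.map_eq_top_or_isMaximal_of_surjective _ Ideal.Quotient.mk_surjective
        (maximalIdeal.isMaximal A)).resolve_left ?_
      intro htop
      have h1 : (1 : A ⧸ I) ∈ (maximalIdeal A).map (Ideal.Quotient.mk I) := by
        rw [htop]; trivial
      rw [← map_one (Ideal.Quotient.mk I),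
        Ideal.mem_map_iff_of_surjective _ Ideal.Quotient.mk_surjective] at h1
      obtain ⟨a, ha, ha1⟩ := h1
      have h2 : a - 1 ∈ I := (Ideal.Quotient.eq).mp ha1
      have h3 : (1 : A) ∈ maximalIdeal A := by
        have := sub_mem ha (hI h2)
        rwa [sub_sub_cancel] at this
      exact (maximalIdeal.isMaximal A).ne_top ((Ideal.eq_top_iff_one _).mpr h3)
    have hx' : Ideal.span (Set.range x') = maximalIdeal (A ⧸ I) := by
      rw [hmax', ← hx, Ideal.map_span]
      apply le_antisymm
      · apply Ideal.span_mono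
        rintro _ ⟨j, rfl⟩
        exact ⟨x j.succ, ⟨j.succ, rfl⟩, rfl⟩
      · rw [Ideal.span_le]
        rintro _ ⟨_, ⟨j, rfl⟩, rfl⟩
        refine Fin.cases ?_ (fun j => ?_) j
        · have : Ideal.Quotient.mk I (x 0) = 0 :=
            Ideal.Quotient.eq_zero_iff_mem.mpr (Ideal.mem_span_singleton_self x₀)
          rw [this]
          exact zero_mem _
        · exact Ideal.subset_span ⟨j, rfl⟩
    have hD' : ∀ i j, D' i (x' j) - (if i = j then 1 else 0) ∈ maximalIdeal (A ⧸ I) := by
      intro i j
      have h1 : D' i (x' j) - (if i = j then 1 else 0) =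
          Ideal.Quotient.mk I (E i (x j.succ) - (if i = j then 1 else 0)) := by
        rw [map_sub]
        congr 1
        split_ifs <;> simp
      rw [h1, hmax']
      apply Ideal.mem_map_of_mem
      have h2 : E i (x j.succ) - (if i = j then 1 else 0) =
          (D i.succ (x j.succ) - (if i.succ = j.succ then 1 else 0)) -
            (D i.succ x₀) * D₀ (x j.succ) := by
        change D i.succ (x j.succ) - (D i.succ x₀) • D₀ (x j.succ) - _ = _
        have : (i.succ = j.succ) ↔ (i = j) := Fin.succ_inj
        simp only [this, smul_eq_mul]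
        ring
      rw [h2]
      refine sub_mem (hD i.succ j.succ) (Ideal.mul_mem_right _ _ ?_)
      have h3 := hD i.succ 0
      have : i.succ ≠ 0 := Fin.succ_ne_zero i
      simpa [this] using h3
    have hdom : IsDomain (A ⧸ I) := ih (A ⧸ I) hQ' x' D' hx' hD'
    have hprime : I.IsPrime := (Ideal.Quotient.isDomain_iff_prime I).mp hdom
    exact isDomain_of_prime_span_singleton x₀ hnzd hx₀m hprime

end Groth.Agent.Lib.Helper19.Cartier
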