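import Mathlib
import Groth.Agent.S2259
import Groth.Agent.Lib.Helper19.Cartier.Points
import Groth.Agent.Lib.Helper19.Cartier.DerivationRegular

/-!
# Cartier's theorem: group schemes locally of finite type over a field of characteristic zero
are smooth
-/

set_option autoImplicit false
universe u

open CategoryTheory CategoryTheory.Limits AlgebraicGeometry MonoidalCategory
  CartesianMonoidalCategory MonObj IsLocalRing

namespace Groth.Agent.Lib.Helper19.Cartier

section Algebra

open Classical in
/-- A Noetherian local `k`-algebra `A` with residue field `k` of characteristic zero, all of whose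
tangent vectors at the closed point lift to derivations of `A`, is a domain. -/
theorem isDomain_of_tangent_derivations {A k : Type u} [CommRing A] [IsLocalRing A]
    [IsNoetherianRing A] [Field k] [CharZero k] (ε : A →+* k) [IsLocalHom ε] (s : k →+* A)
    (hs : ∀ c, ε (s c) = c)
    (H : ∀ v : CotangentSpace A →ₗ[ResidueField A] ResidueField A,
      ∃ D : Derivation ℤ A A, ∀ a, ε (D a) = (tangentHom ε s hs v a).snd) : IsDomain A := by
  have hQ : ∀ n : ℕ, n ≠ 0 → IsUnit (n : A) := by
    intro n hn
    have h1 : IsUnit ((n : k)) := (Nat.cast_ne_zero.mpr hn).isUnit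
    have h2 := h1.map s
    rwa [map_natCast] at h2
  let N := Module.finrank (ResidueField A) (CotangentSpace A)
  let b : Module.Basis (Fin N) (ResidueField A) (CotangentSpace A) :=
    Module.finBasis (ResidueField A) (CotangentSpace A)
  have hsurj := (maximalIdeal A).toCotangent_surjective
  choose x' hx' using fun j => hsurj (b j)
  choose D hD using fun i => H (b.coord i)
  have hx : Ideal.span (Set.range fun j => (x' j : A)) = maximalIdeal A := by
    have h1 : Submodule.span (ResidueField A) ((maximalIdeal A).toCotangent '' Set.range x') = ⊤ := by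
      rw [← Set.range_comp]
      have : ((maximalIdeal A).toCotangent ∘ x') = b := funext hx'
      rw [this]
      exact b.span_eq
    rw [CotangentSpace.span_image_eq_top_iff] at h1
    have h2 := congrArg (Submodule.map (maximalIdeal A).subtype) h1
    rw [Submodule.map_span, Submodule.map_top, Submodule.range_subtype, ← Set.range_comp] at h2
    exact h2
  refine isDomain_of_derivations N A hQ (fun j => (x' j : A)) D hx fun i j => ?_
  have hmem : ∀ a : A, ε a = 0 → a ∈ maximalIdeal A := fun a ha => by
    have : a ∈ RingHom.ker ε := ha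
    rwa [ker_eq_maximalIdeal ε s hs] at this
  apply hmem
  rw [map_sub, hD i (x' j), snd_tangentHom_of_mem ε s hs (b.coord i) (x' j), hx' j]
  rw [Module.Basis.coord_apply, Module.Basis.repr_self, Finsupp.single_apply]
  by_cases hij : i = j
  · subst hij
    simp
  · rw [if_neg (Ne.symm hij), if_neg hij]
    simp

end Algebra

section Scheme

variable {k : Type u} [Field k] [CharZero k] (G : Over (Spec (CommRingCat.of k))) [GrpObj G]
  [LocallyOfFiniteType G.hom]

/-- The local ring at the unit of a group scheme locally of finite type over a field of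
characteristic zero is a domain. -/
theorem isDomain_A : IsDomain (A G) := by
  haveI : IsLocallyNoetherian G.left := LocallyOfFiniteType.isLocallyNoetherian G.hom
  refine isDomain_of_tangent_derivations (A := A G) (k := k) (εA G).hom (sA G).hom
    (εA_sA_apply G) fun v => ?_
  refine exists_derivation_of_tangent G (CommRingCat.ofHom
    (tangentHom (A := A G) (k := k) (εA G).hom (sA G).hom (εA_sA_apply G) v)) ?_ ?_
  · apply CommRingCat.hom_ext
    exact tangentHom_comp (A := A G) (k := k) (εA G).hom (sA G).hom (εA_sA_apply G) v
  · apply CommRingCat.hom_ext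
    ext a
    rfl

/-- A group scheme locally of finite type over a field of characteristic zero has a smooth
point. -/
theorem exists_mem_smoothLocus : ∃ x : G.left, x ∈ G.hom.smoothLocus := by
  haveI : IsLocallyNoetherian G.left := LocallyOfFiniteType.isLocallyNoetherian G.hom
  haveI := isDomain_A G
  obtain ⟨U, hxU, hU⟩ := Groth.Agent.S2259.result G.left (unitPt G)
  have hd := (U.ι ≫ G.hom).dense_smoothLocus_of_perfectField
  haveI : Nonempty U := ⟨⟨unitPt G, hxU⟩⟩
  obtain ⟨u, hu⟩ := hd.nonempty
  rw [SetLike.mem_coe, ← Scheme.Hom.preimage_smoothLocus_eq] at hu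
  exact ⟨U.ι u, hu⟩

end Scheme

section Homog

variable {K : Type u} [Field K] {G : Scheme.{u}} (f : G ⟶ Spec (.of K))
    [LocallyOfFiniteType f] [GrpObj (Over.mk f)]

set_option backward.defeqAttrib.useBackward true in
set_option backward.isDefEq.respectTransparency false in
/-- A group scheme locally of finite type over an algebraically closed field which has a smooth
point is smooth (translation argument, following Mathlib's `smooth_of_grpObj`). -/
lemma smooth_of_grpObj_of_isAlgClosed_of_nonempty [IsAlgClosed K]
    (h : (f.smoothLocus : Set G).Nonempty) : Smooth f := by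
  have := LocallyOfFiniteType.jacobsonSpace f
  rw [← Scheme.Hom.smoothLocus_eq_top_iff, ← TopologicalSpace.Opens.coe_eq_univ,
    ← not_ne_iff, ← Set.nonempty_compl]
  intro H
  obtain ⟨x, hx, hxc⟩ :=
    nonempty_inter_closedPoints H f.smoothLocus.2.isClosed_compl.isLocallyClosed
  obtain ⟨y, hy : y ∈ f.smoothLocus, hyc⟩ := nonempty_inter_closedPoints
    h f.smoothLocus.2.isLocallyClosed
  let x' : 𝟙_ _ ⟶ Over.mk f := Over.homMk _ ((pointEquivClosedPoint f).symm ⟨x, hxc⟩).2
  let y' : 𝟙_ _ ⟶ Over.mk f := Over.homMk _ ((pointEquivClosedPoint f).symm ⟨y, hyc⟩).2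
  let α := (GrpObj.mulRight (A := Over.mk f) x').symm ≪≫
    (GrpObj.mulRight (A := Over.mk f) y')
  have hα : x' ≫ α.hom = y' := by
    dsimp only [Iso.trans_hom, Iso.symm_hom, α]
    rw [← Category.assoc, ← Iso.eq_comp_inv]
    simp [comp_lift_assoc]
  have hα' : α.hom.left x = y := by
    simpa [x', y', pointEquivClosedPoint] using congr(($hα).left (IsLocalRing.closedPoint K))
  rw! [← hα', ← α.hom.left.mem_preimage, Scheme.Hom.preimage_smoothLocus_eq,
    show α.hom.left ≫ f = f from α.hom.w] at hy
  exact hx hy

end Homog

section Main

variable {k : Type u} [Field k] [CharZero k] (G : Over (Spec (CommRingCat.of k))) [GrpObj G]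
  [LocallyOfFiniteType G.hom]

/-- **Cartier's theorem**: a group scheme locally of finite type over a field of characteristic
zero is smooth. -/
theorem smooth_of_charZero : Smooth G.hom := by
  let Ω : Type u := AlgebraicClosure k
  let g : Spec (.of Ω) ⟶ Spec (.of k) := Spec.map (CommRingCat.ofHom <| algebraMap k Ω)
  apply MorphismProperty.of_pullback_snd_of_descendsAlong
    (Q := @Surjective ⊓ @Flat ⊓ @QuasiCompact) (g := g)
  · exact ⟨⟨inferInstance, inferInstance⟩, inferInstance⟩
  · letI : GrpObj (Over.mk G.hom) := ‹GrpObj G›
    letI : GrpObj (Over.mk (Limits.pullback.snd G.hom g)) := Over.grpObjMkPullbackSnd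
    haveI : LocallyOfFiniteType (Over.mk (pullback.snd G.hom g)).hom :=
      inferInstanceAs (LocallyOfFiniteType (pullback.snd G.hom g))
    apply smooth_of_grpObj_of_isAlgClosed_of_nonempty
    obtain ⟨x, hx⟩ := exists_mem_smoothLocus (Over.mk (pullback.snd G.hom g))
    exact ⟨x, hx⟩

end Main

end Groth.Agent.Lib.Helper19.Cartier
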