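import Mathlib
import Groth.Agent.Lib.Helper19.Sm.SmoothFiberPointwise
import Groth.Agent.Lib.Helper19.Cartier.Main

/-!
# Flat lfp group schemes over a base with residue fields of characteristic zero are smooth
-/

set_option autoImplicit false
universe u

open CategoryTheory CategoryTheory.Limits AlgebraicGeometry MonoidalCategory
  CartesianMonoidalCategory MonObj GrpObj

namespace Groth.Agent.Lib.Helper19.Cartier

theorem smooth_of_flat_of_charZero_residueFields {S : Scheme.{u}}
    (hS : ∀ s : S, CharZero (S.residueField s)) (G : Over S) [GrpObj G]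
    [Flat G.hom] [LocallyOfFinitePresentation G.hom] : Smooth G.hom := by
  rw [← Scheme.Hom.smoothLocus_eq_top_iff]
  ext x
  simp only [TopologicalSpace.Opens.coe_top, Set.mem_univ, iff_true, SetLike.mem_coe]
  refine mem_smoothLocus_of_flat_of_smooth_fiber G.hom x (Flat.stalkMap G.hom x) ?_
  set s := G.hom x
  let K := IsLocalRing.ResidueField (S.presheaf.stalk s)
  haveI : CharZero K := hS s
  let f' : G.hom.fiber s ⟶ Spec (.of K) := G.hom.fiberToSpecResidueField s
  have hG : GrpObj (Over.mk G.hom) := inferInstanceAs (GrpObj G)
  letI : GrpObj (Over.mk f') :=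
    Over.grpObjMkPullbackSnd (f := G.hom) (g := S.fromSpecResidueField s)
  have : LocallyOfFinitePresentation f' :=
    inferInstanceAs (LocallyOfFinitePresentation (pullback.snd G.hom (S.fromSpecResidueField s)))
  have : LocallyOfFiniteType (Over.mk f').hom := inferInstanceAs (LocallyOfFiniteType f')
  exact smooth_of_charZero (Over.mk f')

end Groth.Agent.Lib.Helper19.Cartier
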