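import Mathlib
import Groth.Agent.Lib.Helper19.Cartier.PowerMap

/-!
# The `n`-th power map is étale near central rational points (`n ∈ kˣ`)
-/

set_option autoImplicit false
universe u

open CategoryTheory CategoryTheory.Limits AlgebraicGeometry MonoidalCategory
  CartesianMonoidalCategory MonObj IsLocalRing

namespace Groth.Agent.Lib.Helper19.Cartier

variable {k : Type u} [Field k] {G : Over (Spec (CommRingCat.of k))} [GrpObj G]

lemma mulRight_hom_eq (g : 𝟙_ (Over (Spec (CommRingCat.of k))) ⟶ G) :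
    (GrpObj.mulRight g).hom = (𝟙 G : G ⟶ G) * (toUnit G ≫ g) := by
  rw [Hom.mul_def]
  rfl

lemma unit_comp_mulRight (g : 𝟙_ (Over (Spec (CommRingCat.of k))) ⟶ G) :
    η[G] ≫ (GrpObj.mulRight g).hom = g := by
  rw [mulRight_hom_eq, MonObj.comp_mul, Category.comp_id, ← Category.assoc]
  have h1 : η[G] ≫ toUnit G = 𝟙 _ := toUnit_unique _ _
  have h2 : η[G] = (1 : 𝟙_ _ ⟶ G) := by rw [Hom.one_def]; simp
  rw [h1, Category.id_comp, h2, _root_.one_mul]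

lemma mulRight_comp_pow (n : ℕ) (g : 𝟙_ (Over (Spec (CommRingCat.of k))) ⟶ G)
    (hg : (toUnit G ≫ g) * (𝟙 G : G ⟶ G) = (𝟙 G : G ⟶ G) * (toUnit G ≫ g)) :
    (GrpObj.mulRight g).hom ≫ (𝟙 G : G ⟶ G) ^ n =
      ((𝟙 G : G ⟶ G) ^ n) ≫ (GrpObj.mulRight (g ^ n)).hom := by
  rw [MonObj.comp_pow, Category.comp_id, mulRight_hom_eq, mulRight_hom_eq, MonObj.comp_mul,
    Category.comp_id, ← Category.assoc]
  have h1 : ((𝟙 G : G ⟶ G) ^ n) ≫ toUnit G = toUnit G := toUnit_unique _ _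
  have hc : Commute (𝟙 G : G ⟶ G) (toUnit G ≫ g) := hg.symm
  rw [h1, MonObj.comp_pow, hc.mul_pow]

variable [LocallyOfFiniteType G.hom]

theorem exists_nhd_etale_pow_of_central (n : ℕ) (hn : (n : k) ≠ 0)
    (g : 𝟙_ (Over (Spec (CommRingCat.of k))) ⟶ G)
    (hg : (toUnit G ≫ g) * (𝟙 G : G ⟶ G) = (𝟙 G : G ⟶ G) * (toUnit G ≫ g)) :
    ∃ U : G.left.Opens, (∀ p, g.left p ∈ U) ∧ Etale (U.ι ≫ ((𝟙 G : G ⟶ G) ^ n).left) := by
  obtain ⟨U, hU, hE⟩ := exists_nhd_etale_pow (G := G) n hn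
  obtain ⟨α, hα⟩ : ∃ α : G ≅ G, α = GrpObj.mulRight g := ⟨_, rfl⟩
  obtain ⟨β, hβ⟩ : ∃ β : G ≅ G, β = GrpObj.mulRight (g ^ n) := ⟨_, rfl⟩
  have hcomm : α.hom ≫ (𝟙 G : G ⟶ G) ^ n = ((𝟙 G : G ⟶ G) ^ n) ≫ β.hom := by
    rw [hα, hβ]; exact mulRight_comp_pow n g hg
  have hu : (𝟙 G : G ⟶ G) ^ n = α.inv ≫ ((𝟙 G : G ⟶ G) ^ n) ≫ β.hom := by
    rw [← hcomm, Iso.inv_hom_id_assoc]
  have hηα : η[G] ≫ α.hom = g := by rw [hα]; exact unit_comp_mulRight g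
  refine ⟨α.inv.left ⁻¹ᵁ U, fun p => ?_, ?_⟩
  · rw [Scheme.Hom.mem_preimage]
    have h1 : g ≫ α.inv = η[G] := by
      rw [← hηα, Category.assoc, Iso.hom_inv_id, Category.comp_id]
    have h2 : α.inv.left (g.left p) = η[G].left p := by
      rw [← h1]; rfl
    rw [h2]
    have : p = closedPoint k := Subsingleton.elim (α := PrimeSpectrum k) _ _
    rw [this]
    exact hU
  · have e : (α.inv.left ⁻¹ᵁ U).ι ≫ ((𝟙 G : G ⟶ G) ^ n).left =
        (α.inv.left ∣_ U) ≫ (U.ι ≫ ((𝟙 G : G ⟶ G) ^ n).left) ≫ β.hom.left := by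
      conv_lhs => rw [hu]
      rw [Over.comp_left, Over.comp_left, ← Category.assoc, ← morphismRestrict_ι]
      simp only [Category.assoc]
    rw [e]
    infer_instance

end Groth.Agent.Lib.Helper19.Cartier
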