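import Mathlib
import Groth.Agent.S2259
import Groth.Agent.Lib.Helper19.Cartier.Main

/-!
# Group schemes over an algebraically closed field with one reduced local ring are smooth
-/

set_option autoImplicit false
universe u

open CategoryTheory CategoryTheory.Limits AlgebraicGeometry MonoidalCategory
  CartesianMonoidalCategory MonObj IsLocalRing

namespace Groth.Agent.Lib.Helper19.Cartier

/-- A scheme locally of finite type over a perfect field with a reduced local ring has a smooth
point. -/
theorem exists_mem_smoothLocus_of_isReduced_stalk {K : Type u} [Field K] [PerfectField K]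
    {X : Scheme.{u}} (f : X ⟶ Spec (CommRingCat.of K)) [LocallyOfFiniteType f] (x : X)
    [_root_.IsReduced (X.presheaf.stalk x)] : ∃ y : X, y ∈ f.smoothLocus := by
  haveI : IsLocallyNoetherian X := LocallyOfFiniteType.isLocallyNoetherian f
  obtain ⟨U, hxU, hU⟩ := Groth.Agent.S2259.result X x
  have hd := (U.ι ≫ f).dense_smoothLocus_of_perfectField
  haveI : Nonempty U := ⟨⟨x, hxU⟩⟩
  obtain ⟨u, hu⟩ := hd.nonempty
  rw [SetLike.mem_coe, ← Scheme.Hom.preimage_smoothLocus_eq] at hu
  exact ⟨U.ι u, hu⟩

/-- A group scheme locally of finite type over an algebraically closed field, one of whose local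
rings is reduced, is smooth. -/
theorem smooth_of_isReduced_stalk_of_isAlgClosed {K : Type u} [Field K] [IsAlgClosed K]
    (G : Over (Spec (CommRingCat.of K))) [GrpObj G] [LocallyOfFiniteType G.hom] (x : G.left)
    [_root_.IsReduced (G.left.presheaf.stalk x)] : Smooth G.hom := by
  letI : GrpObj (Over.mk G.hom) := ‹GrpObj G›
  apply smooth_of_grpObj_of_isAlgClosed_of_nonempty
  obtain ⟨y, hy⟩ := exists_mem_smoothLocus_of_isReduced_stalk G.hom x
  exact ⟨y, hy⟩

/-- Smoothness of a group scheme over a field can be checked after base change to an algebraic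
closure, where it follows from reducedness of a single local ring. -/
theorem smooth_of_isReduced_stalk_baseChange {k : Type u} [Field k]
    (G : Over (Spec (CommRingCat.of k))) [GrpObj G] [LocallyOfFiniteType G.hom]
    (x : ((Over.pullback (Spec.map (CommRingCat.ofHom
      (algebraMap k (AlgebraicClosure k))))).obj G).left)
    [_root_.IsReduced (((Over.pullback (Spec.map (CommRingCat.ofHom
      (algebraMap k (AlgebraicClosure k))))).obj G).left.presheaf.stalk x)] :
    Smooth G.hom := by
  let g : Spec (.of (AlgebraicClosure k)) ⟶ Spec (.of k) :=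
    Spec.map (CommRingCat.ofHom <| algebraMap k (AlgebraicClosure k))
  apply MorphismProperty.of_pullback_snd_of_descendsAlong
    (Q := @Surjective ⊓ @Flat ⊓ @QuasiCompact) (g := g)
  · exact ⟨⟨inferInstance, inferInstance⟩, inferInstance⟩
  · letI : GrpObj ((Over.pullback g).obj G) := Functor.grpObjObj
    haveI : LocallyOfFiniteType ((Over.pullback g).obj G).hom :=
      inferInstanceAs (LocallyOfFiniteType (pullback.snd G.hom g))
    exact smooth_of_isReduced_stalk_of_isAlgClosed ((Over.pullback g).obj G) x

end Groth.Agent.Lib.Helper19.Cartier
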