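import Mathlib
import Groth.Agent.Lib.Helper19.Cartier.ReducedSmooth
import Groth.Agent.Lib.Helper19.Grp.GeneralHomogeneity
import Groth.Agent.Lib.Helper19.Grp.FlatPt

/-!
# A group scheme over a field whose local ring at some point is reduced after a perfect base
change is smooth
-/

set_option autoImplicit false
universe u

open CategoryTheory CategoryTheory.Limits AlgebraicGeometry MonoidalCategory
  CartesianMonoidalCategory MonObj GrpObj
open scoped TensorProduct

namespace Groth.Agent.Lib.Helper19.Cartier

/-- Smoothness of a group scheme over a field can be checked after base change to a perfect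
extension, where it follows from reducedness of a single local ring. -/
theorem smooth_of_isReduced_stalk_pullback {k K : Type u} [Field k] [Field K] [Algebra k K]
    [PerfectField K]
    (G : Over (Spec (CommRingCat.of k))) [GrpObj G] [LocallyOfFiniteType G.hom]
    (x : ((Over.pullback (Spec.map (CommRingCat.ofHom (algebraMap k K)))).obj G).left)
    [_root_.IsReduced (((Over.pullback (Spec.map (CommRingCat.ofHom
      (algebraMap k K)))).obj G).left.presheaf.stalk x)] :
    Smooth G.hom := by
  let g : Spec (.of K) ⟶ Spec (.of k) := Spec.map (CommRingCat.ofHom <| algebraMap k K)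
  apply MorphismProperty.of_pullback_snd_of_descendsAlong
    (Q := @Surjective ⊓ @Flat ⊓ @QuasiCompact) (g := g)
  · exact ⟨⟨inferInstance, inferInstance⟩, inferInstance⟩
  · letI : GrpObj ((Over.pullback g).obj G) := Functor.grpObjObj
    haveI : LocallyOfFiniteType ((Over.pullback g).obj G).hom :=
      inferInstanceAs (LocallyOfFiniteType (pullback.snd G.hom g))
    exact smooth_of_exists_mem_smoothLocus K ((Over.pullback g).obj G)
      (exists_mem_smoothLocus_of_isReduced_stalk ((Over.pullback g).obj G).hom x)

/-- The structure morphism of the local scheme at a point of a scheme over `Spec R`. -/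
lemma fromSpecStalk_comp_eq_SpecMap {X : Scheme.{u}} {R : CommRingCat.{u}} (f : X ⟶ Spec R)
    (x : X) : X.fromSpecStalk x ≫ f =
      Spec.map ((Scheme.ΓSpecIso R).inv ≫ f.appTop ≫ X.presheaf.germ ⊤ x trivial) := by
  apply ext_of_isAffine
  rw [Scheme.Hom.comp_appTop, Scheme.fromSpecStalk_appTop]
  have h := Scheme.ΓSpecIso_inv_naturality
    ((Scheme.ΓSpecIso R).inv ≫ f.appTop ≫ X.presheaf.germ ⊤ x trivial)
  rw [← cancel_epi (Scheme.ΓSpecIso R).inv, ← h]
  simp

/-- If `K ⊗_k 𝒪_{G,x}` is reduced for some point `x` of a locally algebraic group `G` over `k` and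
some perfect extension `K` of `k`, then `G` is smooth. -/
theorem smooth_of_isReduced_tensor_stalk (k : Type u) [Field k]
    (G : Over (Spec (CommRingCat.of k))) [GrpObj G] [LocallyOfFiniteType G.hom] (x : G.left)
    (K : Type u) [Field K] [Algebra k K] [PerfectField K] :
    letI := ((Scheme.ΓSpecIso (CommRingCat.of k)).inv ≫ G.hom.appTop ≫
      G.left.presheaf.germ ⊤ x trivial).hom.toAlgebra
    _root_.IsReduced (K ⊗[k] (G.left.presheaf.stalk x)) → Smooth G.hom := by
  letI : Algebra k (G.left.presheaf.stalk x) :=
    ((Scheme.ΓSpecIso (CommRingCat.of k)).inv ≫ G.hom.appTop ≫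
      G.left.presheaf.germ ⊤ x trivial).hom.toAlgebra
  intro hred
  let A : CommRingCat.{u} := G.left.presheaf.stalk x
  let g : Spec (.of K) ⟶ Spec (.of k) := Spec.map (CommRingCat.ofHom <| algebraMap k K)
  let a : Spec A ⟶ Spec (.of k) := Spec.map (CommRingCat.ofHom <| algebraMap k A)
  let j : Spec A ⟶ G.left := G.left.fromSpecStalk x
  have hj : j ≫ G.hom = a := fromSpecStalk_comp_eq_SpecMap G.hom x
  -- the base change of `Spec A` to `K`
  let P := pullback g a
  let e : P ≅ Spec (.of (K ⊗[k] A)) := pullbackSpecIso k K A
  haveI : IsReduced P := isReduced_of_isOpenImmersion e.hom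
  let φ : P ⟶ pullback G.hom g :=
    pullback.lift (pullback.snd g a ≫ j) (pullback.fst g a)
      (by rw [Category.assoc, hj, pullback.condition])
  have sq : IsPullback φ (pullback.snd g a) (pullback.fst G.hom g) j := by
    refine IsPullback.of_right (h₁₂ := pullback.snd G.hom g) (h₂₂ := G.hom) (v₁₃ := g) ?_
      (pullback.lift_fst _ _ _) (IsPullback.of_hasPullback G.hom g).flip
    rw [pullback.lift_snd, hj]
    exact IsPullback.of_hasPullback g a
  haveI : Flat φ := MorphismProperty.of_isPullback (P := @Flat) sq.flip inferInstance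
  -- a point of `P`
  obtain ⟨q, -⟩ := (pullback.snd g a).surjective (IsLocalRing.closedPoint A)
  have hinj : Function.Injective (φ.stalkMap q).hom :=
    (faithfullyFlat_stalkMap φ q).injective
  have hr : _root_.IsReduced ((pullback G.hom g).presheaf.stalk (φ q)) :=
    isReduced_of_injective (φ.stalkMap q).hom hinj
  exact @smooth_of_isReduced_stalk_pullback k K _ _ _ _ G _ _ (φ q) hr

end Groth.Agent.Lib.Helper19.Cartier
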